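import Cfsg.Agent.OddHalf.NI3.Assemble
import Cfsg.Agent.OddHalf.NI3.FThree.C3Small
import Cfsg.Agent.OddHalf.CoverAlt
import Cfsg.Agent.OddHalf.D9.Final
import Cfsg.Agent.S0205
import Cfsg.Agent.S0483
import Cfsg.Agent.S1173
import Cfsg.Agent.S1738
import Cfsg.Agent.OddHalf.NI3.Bad.OutRows
import Cfsg.Agent.OddHalf.NI3.Bad.KDOf
import Cfsg.Agent.OddHalf.NI3.Bad.RowO8p
import Cfsg.Agent.OddHalf.NI3.Bad.NSideN
import Cfsg.Agent.OddHalf.NI3.Bad.StepD
import Cfsg.Agent.OddHalf.NI3.Bad.CovOf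
import Cfsg.Agent.OddHalf.NI3.K.FThirteenAll
import Cfsg.Agent.OddHalf.NI3.Ex4.Cut
import Cfsg.Agent.OddHalf.Table.SignAll

-- merged: Cfsg.Agent.OddHalf.Top.NIOpen
section

/-!
# Node NI, all odd `q`: what is really open (helper656)

`left : Open → NI3.Assemble.Left`: the fields which are theorems on main are plugged.
-/

set_option autoImplicit false

namespace Cfsg.Agent.OddHalf.Top.NIOpen

open Subgroup Cfsg Cfsg.Agent.OddHalf.Iface

universe u

/-- What is open in node NI. -/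
structure Open : Prop where
  /-- THEOREM T -/
  tst : Cit.TStmt.{u}
  p1310 : Stmts.P1310.{u}
  /-- (EX) -/
  xrows : NI.Ex.Final.XRows.{u}
  no44 : NI.Ex.L34.No44.{u}
  /-- (EX3) -/
  rows3 : NI3.Ex.Rows3.{u}
  f13 : NI3.F13.{u}
  f13c : NI3.F13c.{u}
  nib : NI3.Bad.NIB.{u}

theorem h1173 : ∀ (G : Type u) [Group G] [Finite G], oddCore G = ⊥ → Cit.OneF.H1173 G :=
  fun _ _ _ ho S T hT => S1173.result ho S T hT

theorem left (O : Open.{u}) : NI3.Assemble.Left.{u} where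
  tst := O.tst
  sf := NI3.FThree.smallFalse_of h1173 O.tst
  p1310 := O.p1310
  gw := fun _ _ _ _ S n hn hS => S0483.result S n hn hS
  p1738 := fun {_} _ _ hO hF t ht K hK htK n hn h => S1738.result hO hF t ht K hK htK n hn h
  d5 := CoverAlt.d5cover
  mult := D9.Final.mult
  xrows := O.xrows
  no44 := O.no44
  rows3 := O.rows3
  ft := fun _ _ _ h => S0205.result h
  f13 := O.f13
  f13c := O.f13c
  nib := O.nib

end Cfsg.Agent.OddHalf.Top.NIOpen

end

-- merged: Cfsg.Agent.OddHalf.Top.NibOf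
section

/-!
# Node NI, all odd `q`: THEOREM NIB plugged (helper255)

`Open0` : what is open in node NI (`nib` replaced by the rows of (EX4), `f13` and `f13c` plugged); `nib : Open0 → NIB`;
`toOpen : Open0 → NIOpen.Open`.
-/

set_option autoImplicit false
set_option linter.style.haveILetI false

namespace Cfsg.Agent.OddHalf.Top.NibOf

open Subgroup Cfsg Cfsg.Agent.OddHalf.Iface Cfsg.Agent.OddHalf.LieOddFam Cfsg.Agent.OddHalf.NI3
open Cfsg.Agent.Cit (TStmt)
open Cfsg.Agent.OddHalf.NI.FTwo (S7Big ChartB3)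
open Cfsg.Agent.OddHalf.NI.PosStd (S7B3)
open Cfsg.Agent.OddHalf.NI3.Assemble (ree)

universe u

/-- What is open in node NI. -/
structure Open0 : Prop where
  /-- THEOREM T -/
  tst : TStmt.{u}
  p1310 : Stmts.P1310.{u}
  /-- (EX) -/
  xrows : NI.Ex.Final.XRows.{u}
  no44 : NI.Ex.L34.No44.{u}
  /-- (EX3) -/
  rows3 : NI3.Ex.Rows3.{u}
  /-- (EX4) -/
  rows4 : NI3.Ex4.Rows4.{u}
  /-- S1311 -/
  p1311 : Stmts.P1311.{u}

theorem gw : RankOne.GW.{u} := fun _ _ _ _ S n hn hS => S0483.result S n hn hS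

theorem p1738 : Stmts.P1738.{u} := fun {_} _ _ hO hF t ht K hK htK n hn h => S1738.result hO hF t ht K hK htK n hn h

theorem ft : ∀ (X : Type u) [Group X] [Finite X], Odd (Nat.card X) → Group.IsSolvable X :=
  fun _ _ _ h => S0205.result h

variable (O : Open0.{u})

theorem hFT : ∀ (G : Type u) [Group G] [Finite G], D3.FT G := fun _ _ _ K hK => ft ↥K hK

include O

/-- **THEOREM X(3)** -/
theorem noFam3 : ∀ (G : Type u) [Group G], Ctx G → NoFam3 G := by
  have sf := FThree.smallFalse_of NIOpen.h1173 O.tst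
  refine noFam3_of O.tst (FThree.f23a_of O.tst sf) ?_ ft
  intro N _ _ hN h2 x z J' J h1 h3 h4 h5 h6
  obtain ⟨T, h7, h8, h9⟩ := FThree.f23b_of O.tst sf N hN h2 x z J' J h1 h3 h4 h5 h6
  exact ⟨T, h7, h8, ZMod 3, inferInstance, inferInstance, h9⟩

theorem entrance : NI.NI3.{u} := ni3 Fr.frameFact3 (noFam3 O)

theorem facts : NI.Assemble.Facts.{u} S7Big where
  frame := Cfsg.Agent.OddHalf.NI.FrameFact.frameFact
  f2 := NI.FTwo.f2' O.tst
  autM := by
    rintro N _ _ c d A B A' ⟨F, _, _, -, H⟩ α hA hB hA'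
    exact NI.PosStd.aut_sq H α hA hB hA'
  sol := Sol.sol_of fun N _ _ c d A B A' ⟨F, i, j, _, H⟩ => ⟨F, i, j, H⟩
  p1310 := O.p1310
  ex := NI.Ex.Final.ex_of gw p1738 CoverAlt.d5cover D9.Final.mult O.xrows O.no44 (entrance O)
  ni3 := entrance O
  ft := ft

theorem noBig : NI.NoBig.{u} := NI.Assemble.noBig_of (facts O)

theorem niv : NI.NIV.{u} := NI.Assemble.niv_of (facts O)

theorem noFam : ∀ (G : Type u) [Group G], Ctx G → NI.NoFam G :=
  NI.noFam (facts O).f2 (facts O).autM (facts O).sol (NI.Assemble.lieCl O.p1310) ft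

theorem niv3 : NIV3.{u} :=
  NI3.niv3 hFT (noFam O) (noFam3 O) Cfsg.Agent.OddHalf.NI.FrameFact.frameFact Fr.frameFact3 ree
    (Ex.ex3 gw p1738 CoverAlt.d5cover D9.Final.mult O.rows3)

theorem niv3b : NIV3b.{u} :=
  NI3.niv3b hFT (noFam O) (noFam3 O) Cfsg.Agent.OddHalf.NI.FrameFact.frameFact Fr.frameFact3 ree
    (Cfsg.Agent.OddHalf.NI3.Ex.Big.ex3b gw p1738 CoverAlt.d5cover D9.Final.mult)

theorem noThree : NoThree.{u} := Final.noThree (niv O) (niv3 O) (niv3b O)

theorem types : Bad.TypeHyps.{u} where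
  p1310 := O.p1310
  noThree := noThree O
  noBig := noBig O
  f13 := K.f13
  f13c := K.f13c
  cov := Bad.covOf

theorem one : Bad.StepOneG.OneHyps.{u} where
  gw := gw
  p1738 := p1738
  p1311 := O.p1311
  d5 := CoverAlt.d5cover
  mulOdd := NI.Ex.Final.mulOdd
  frame := Fr.frameFact3
  x3 := noFam3 O
  ex4 := Ex4.ex4G gw p1738 CoverAlt.d5cover D9.Final.mult Table.SignAll.signRows O.rows4
  rows := Bad.OutRowsOf.outRows O.tst

theorem stepOne : Bad.StepOne.{u} := fun _ _ C _ _ _ _ _ _ h => Bad.StepOneG.hR (types O) (one O) C O.tst h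

/-- **THEOREM NIB** -/
theorem nib : Bad.NIB.{u} := Bad.nib
  { ft := fun G _ _ => hFT G
    t := O.tst
    types := types O
    kd := Bad.kd Bad.NSideN.exSheet ⟨fun X _ _ h => Bad.RowO8p.o8p X h⟩
    ex := Bad.NSideN.exSheet
    one := stepOne O
    d := Bad.stepD fun G _ _ => hFT G }

/-- **Node NI** -/
theorem toOpen : NIOpen.Open.{u} where
  tst := O.tst
  p1310 := O.p1310
  xrows := O.xrows
  no44 := O.no44
  rows3 := O.rows3
  f13 := K.f13
  f13c := K.f13c
  nib := nib O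

end Cfsg.Agent.OddHalf.Top.NibOf

end
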