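import Cfsg.Agent.OddHalf.D6.QThree.NIB.SpOf
import Cfsg.Agent.OddHalf.D6.QThree.SpMain
import Cfsg.Agent.OddHalf.D6.QThree.RowG2
import Cfsg.Agent.OddHalf.D6.QThree.NICase
import Cfsg.Agent.OddHalf.D6.Cut
import Cfsg.Agent.OddHalf.D6.QThree.TS.Main
import Cfsg.Agent.OddHalf.D6.QThree.TS.Inst
import Cfsg.Agent.OddHalf.D6.QThree.TS.Ref
import Cfsg.Agent.OddHalf.D6.QThree.L43.Row
import Cfsg.Agent.OddHalf.CaseC.EndComp
import Cfsg.Agent.OddHalf.D6.QThree.L43.Alpha
import Cfsg.Agent.OddHalf.D6.RThree.Elem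
import Cfsg.Agent.OddHalf.D8.HS.Elim
import Cfsg.Agent.OddHalf.D8.JTwo.Large
import Cfsg.Agent.OddHalf.D6.RThree.FZero
import Cfsg.Agent.OddHalf.D6.RThree.Kill
import Cfsg.Agent.OddHalf.D6.RThree.OrdRank
import Cfsg.Agent.OddHalf.D6.RThree.L33Facts
import Cfsg.Agent.OddHalf.D6.RThree.U33Facts
import Cfsg.Agent.OddHalf.Small.RowsAll
import Cfsg.Agent.LargeExtra.AsmSeven
import Cfsg.Agent.S0483
import Cfsg.Agent.S1758
import Cfsg.Agent.S1759
import Cfsg.Agent.S1762
import Cfsg.Agent.OddHalf.D7.Cases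
import Cfsg.Agent.OddHalf.D7.RowD
import Cfsg.Agent.KFacts.SLRow.DomD
import Mathlib
import Cfsg.Agent.OddHalf.D7Tw.Inst
import Cfsg.Agent.OddHalf.D7Tw.Pre
import Cfsg.Agent.OddHalf.D7Tw.BaseOf
import Cfsg.Agent.OddHalf.D7Tw.CenOf
import Cfsg.Agent.OddHalf.D7Tw.TorOf
import Cfsg.Agent.TwoESix.SheetMain
import Cfsg.Agent.TwoESix.SheetMM
import Cfsg.Agent.KFacts.InnerCaseM
import Cfsg.Agent.OddHalf.D8.Final
import Cfsg.Agent.OddHalf.D7TwF4.FrontFin
import Cfsg.Agent.OddHalf.D7TwF4.Norm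
import Cfsg.Agent.OddHalf.D7TwF4.WMk
import Cfsg.Agent.OddHalf.D7TwF4.Growth.Glue
import Cfsg.Agent.OddHalf.D7TwF4.Growth.KAll
import Cfsg.Agent.OddHalf.D7TwF4.Growth.LevelFive
import Cfsg.Agent.OddHalf.D7.RowL
import Cfsg.Agent.OddHalf.D7.RowE
import Cfsg.Agent.OddHalf.D7.Uni.RowU
import Cfsg.Agent.OddHalf.Orth.NodeMinus
import Cfsg.Agent.OddHalf.D7F4.Row
import Cfsg.Agent.OddHalf.SpN.OutEnd
import Cfsg.Agent.OddHalf.SpTwoN.RowTwo
import Cfsg.Agent.OddHalf.D7Tits.Final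
import Cfsg.Agent.OddHalf.NI3.Assemble
import Cfsg.Agent.OddHalf.CaseM.NIOf
import Cfsg.Agent.OddHalf.CoverAlt
import Cfsg.Agent.OddHalf.D6.Final
import Cfsg.Agent.OddHalf.Main
import Cfsg.Agent.OddHalf.D3.Plug
import Cfsg.Agent.OddHalf.D3.FinalAll
import Cfsg.Agent.OddHalf.D4.Final.Main
import Cfsg.Agent.OddHalf.D4.Final.Inst
import Cfsg.Agent.OddHalf.D4.Ree.Row
import Cfsg.Agent.OddHalf.D4.Small.LFourK
import Cfsg.Agent.OddHalf.D5.FinalAll
import Cfsg.Agent.OddHalf.D6.QThree.RowU4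
import Cfsg.Agent.OddHalf.D6.QThree.PumpOrd.All
import Cfsg.Agent.OddHalf.D8.Plug
import Cfsg.Agent.OddHalf.D9.Final
import Cfsg.Agent.OddHalf.NI.Ex.Plug
import Cfsg.Agent.OddHalf.NI3.Ex.Rows
import Cfsg.Agent.OddHalf.NI3.Ex.RowB
import Cfsg.Agent.OddHalf.NI3.Ex4.RowsFinal
import Cfsg.Agent.OddHalf.Top.NibOf
import Cfsg.Agent.OddHalf.Top.No44
import Cfsg.Agent.OddHalf.Quat.PlugFin
import Cfsg.Agent.OddHalf.Quat.RowOEight
import Cfsg.Agent.Schreier.Assembly
import Cfsg.Agent.S0205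
import Cfsg.Agent.S1173

-- merged: Cfsg.Agent.OddHalf.D6.QThree.RowSp
section

/-!
# ODD half, D6, `q = 3`: the row `PSp₄(3)` (helper143)

`row`: the field `sp4` of `D6.Cut.Three`.
-/

set_option autoImplicit false

namespace Cfsg.Agent.OddHalf.D6.QThree.RowSp

open Subgroup Cfsg Cfsg.Agent.OddHalf Cfsg.Agent.OddHalf.Iface
open Cfsg.Agent.KFacts.PSpFourThree
open Cfsg.Agent.Lib.FieldThree (F3)

/-! ### `NIFacts.Full` -/

theorem mul_eq {p q r : PE} (hp : p.Ok) (hq : q.Ok) (hr : r.Ok) (h : (p.mul q).beqs r = true) :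
    p.el * q.el = r.el := by
  rw [← PE.el_mul hp hq]; exact PE.eq_el (hp.mul hq) hr h

theorem cj_eq {p q r : PE} (hp : p.Ok) (hq : q.Ok) (hr : r.Ok) (h : (PE.cj p q).beqs r = true) :
    p.el * q.el * p.el⁻¹ = r.el := by
  rw [← PE.el_cj hp hq]; exact PE.eq_el (PE.ok_cj hp hq) hr h

theorem full : NIFacts.Full PE.z PE.R := by
  have hz : PE.z = PE.zz.el := rfl
  refine ⟨PE.r1.el, PE.r2.el, PE.r3.el, PE.r4.el, PE.d1.el, PE.d2.el, ?_, ?_, ?_⟩
  · refine ⟨⟨PE.z_mul_z, PE.z_ne, PE.z_comm PE.ok_r1, PE.z_comm PE.ok_r2, PE.z_comm PE.ok_r3, PE.z_comm PE.ok_r4,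
      ?_, ?_, ?_, ?_, ?_, ?_, ?_, ?_, ?_, ?_⟩, ⟨?_, ?_, ?_, ?_, ?_⟩, ⟨?_, ?_, ?_, ?_, ?_⟩⟩
    · exact mul_eq PE.ok_r1 PE.ok_r1 PE.ok_zz (by decide)
    · exact mul_eq PE.ok_r2 PE.ok_r2 PE.ok_zz (by decide)
    · exact mul_eq PE.ok_r3 PE.ok_r3 PE.ok_zz (by decide)
    · exact mul_eq PE.ok_r4 PE.ok_r4 PE.ok_zz (by decide)
    · rw [hz, ← PE.el_mul PE.ok_r1 PE.ok_r2, ← PE.el_mul (PE.ok_r1.mul PE.ok_r2) PE.ok_zz]
      exact mul_eq PE.ok_r2 PE.ok_r1 ((PE.ok_r1.mul PE.ok_r2).mul PE.ok_zz) (by decide)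
    · rw [hz, ← PE.el_mul PE.ok_r3 PE.ok_r4, ← PE.el_mul (PE.ok_r3.mul PE.ok_r4) PE.ok_zz]
      exact mul_eq PE.ok_r4 PE.ok_r3 ((PE.ok_r3.mul PE.ok_r4).mul PE.ok_zz) (by decide)
    · exact (PE.comm_iff PE.ok_r3 PE.ok_r1).2 (by decide)
    · exact (PE.comm_iff PE.ok_r4 PE.ok_r1).2 (by decide)
    · exact (PE.comm_iff PE.ok_r3 PE.ok_r2).2 (by decide)
    · exact (PE.comm_iff PE.ok_r4 PE.ok_r2).2 (by decide)
    · exact cj_eq PE.ok_d1 PE.ok_zz PE.ok_zz (by decide)
    · exact cj_eq PE.ok_d1 PE.ok_r1 PE.ok_r2 (by decide)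
    · rw [← PE.el_mul PE.ok_r1 PE.ok_r2]
      exact cj_eq PE.ok_d1 PE.ok_r2 (PE.ok_r1.mul PE.ok_r2) (by decide)
    · exact cj_eq PE.ok_d1 PE.ok_r3 PE.ok_r3 (by decide)
    · exact cj_eq PE.ok_d1 PE.ok_r4 PE.ok_r4 (by decide)
    · exact cj_eq PE.ok_d2 PE.ok_zz PE.ok_zz (by decide)
    · exact cj_eq PE.ok_d2 PE.ok_r1 PE.ok_r1 (by decide)
    · exact cj_eq PE.ok_d2 PE.ok_r2 PE.ok_r2 (by decide)
    · exact cj_eq PE.ok_d2 PE.ok_r3 PE.ok_r4 (by decide)
    · rw [← PE.el_mul PE.ok_r3 PE.ok_r4]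
      exact cj_eq PE.ok_d2 PE.ok_r4 (PE.ok_r3.mul PE.ok_r4) (by decide)
  · apply le_antisymm
    · have h1 : PE.r1.el ∈ closure {PE.r1.el, PE.r2.el, PE.r3.el, PE.r4.el} := subset_closure (by simp)
      have h2 : PE.r2.el ∈ closure {PE.r1.el, PE.r2.el, PE.r3.el, PE.r4.el} := subset_closure (by simp)
      have h3 : PE.r3.el ∈ closure {PE.r1.el, PE.r2.el, PE.r3.el, PE.r4.el} := subset_closure (by simp)
      have h4 : PE.r4.el ∈ closure {PE.r1.el, PE.r2.el, PE.r3.el, PE.r4.el} := subset_closure (by simp)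
      refine PE.R_le ?_ h1 h2 h3 h4
      have h5 : PE.r1.el * PE.r1.el = PE.zz.el := mul_eq PE.ok_r1 PE.ok_r1 PE.ok_zz (by decide)
      rw [hz, ← h5]
      exact mul_mem h1 h1
    · rw [closure_le]
      intro x hx
      have hx' : x = PE.r1.el ∨ x = PE.r2.el ∨ x = PE.r3.el ∨ x = PE.r4.el := by simpa using hx
      rcases hx' with rfl | rfl | rfl | rfl
      · exact (PE.mem_R PE.ok_r1).2 (by decide)
      · exact (PE.mem_R PE.ok_r2).2 (by decide)
      · exact (PE.mem_R PE.ok_r3).2 (by decide)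
      · exact (PE.mem_R PE.ok_r4).2 (by decide)
  · exact Or.inl ⟨PE.vv.el, PE.z_comm PE.ok_vv, cj_eq PE.ok_vv PE.ok_r1 PE.ok_r3 (by decide)⟩

/-- the K-facts of the row -/
theorem exists_all {K : Type*} [Group K] {F : Type*} [Field F] [Fintype F] (hF : Fintype.card F = 3)
    (e : Nonempty (K ≃* PSp 2 F)) : ∃ (z : K) (R : Subgroup K), FactsOut.Sp z R ∧ FactsOut.Aut z R ∧
      NIFacts.Full z R := by
  obtain ⟨e⟩ := e
  exact ⟨_, _, PE.sp_facts.map (e.trans
    (Cfsg.Agent.LieClassical.FieldTransfer.pspCongr 2 (Cfsg.Agent.Lib.FieldThree.equivOfCard hF))).symm,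
    PE.aut.map (e.trans
    (Cfsg.Agent.LieClassical.FieldTransfer.pspCongr 2 (Cfsg.Agent.Lib.FieldThree.equivOfCard hF))).symm,
    full.map (e.trans
    (Cfsg.Agent.LieClassical.FieldTransfer.pspCongr 2 (Cfsg.Agent.Lib.FieldThree.equivOfCard hF))).symm⟩

universe u

/-- `K` with the facts `Sp`, `Aut`, `Full` -/
theorem row_of {G : Type u} [Group G] (hGW : SylowSp4.Hyps.GW.{u}) (hI : CaseM.Intr.{u})
    (hS : CaseM.IntrSign.{u}) (hG : Ctx G) {K : Subgroup G} (hK : Std G K)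
    (hC : Cyc K) {z : ↥K} {R : Subgroup ↥K} (f : FactsOut.Sp z R) (a : FactsOut.Aut z R)
    (n : NIFacts.Full z R) : False := by
  have := hG.fin
  obtain ⟨t, q, st⟩ := Front.FE.exists_start hG hK hC (SpMain.center_eq_bot f.toThree)
  have E : FrontOut.Emb K t q z R := ⟨st, f.toBase, a⟩
  exact SpMain.false_of_sp (Front.FE.commutator_eq_top hG) (Front.FE.index_ne_two hG) st f a
    (NIBridge.at_of_pos hGW hI hS hG
      (E.pos (Front.FE.commutator_eq_top hG) (Front.FE.index_ne_two hG)) n)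

/-- **The row `PSp₄(3)`** (the field `sp4` of `D6.Cut.Three`) -/
theorem row (hGW : SylowSp4.Hyps.GW.{u}) (hI : CaseM.Intr.{u}) (hS : CaseM.IntrSign.{u}) :
    D6.Cut.Row.{u} (fun X _ => ∃ (F : Type) (_ : Field F) (_ : Fintype F), Fintype.card F = 3 ∧
      Nonempty (X ≃* PSp 2 F)) := by
  intro G _ hG K hK hC _ hX
  obtain ⟨F, _, _, hF, e⟩ := hX
  obtain ⟨z, R, f, a, n⟩ := exists_all hF e
  exact row_of hGW hI hS hG hK hC f a n

end Cfsg.Agent.OddHalf.D6.QThree.RowSp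

end

-- merged: Cfsg.Agent.OddHalf.D6.QThree.TS.Row
section

/-!
# ODD half, D6, `K = L₄(3)`, `T = S`: the input `TSide` of the row `L₄(3)` (text of helper296, bb #16577)

`tside`: a Sylow 2-subgroup of `C(t)` is not a Sylow 2-subgroup of `G`.
-/

set_option autoImplicit false

namespace Cfsg.Agent.OddHalf.D6.QThree.TS.RowTside

open Subgroup Cfsg Cfsg.Agent.OddHalf Cfsg.Agent.OddHalf.Iface
open Cfsg.Agent.OddHalf.D6.QThree.NISide
open Cfsg.Agent.OddHalf.D6.QThree.NIB (Bt)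

universe u

/-- **`T = S` is impossible** -/
theorem tside (hGW : SylowSp4.Hyps.GW.{u}) (I : Intr2.{u}) (hSp : Pump.SpOrd.{u}) (hN : NI3.NoThree.{u}) :
    L43.Row.TSide.{u} := by
  intro G _ C K St _ _ hX z R i j k l a b h t q T B _ hT
  obtain ⟨F, _, _, hF, ⟨e⟩⟩ := hX
  obtain ⟨S₀, hS₀⟩ := hT
  have hfin := C.fin
  have hcard := L43.Row.card_K hF e
  have hmem : ∀ s, s ∈ S₀ → s ∈ T := fun s hs => by rw [← hS₀]; exact hs
  have P : Inst.PosT K t (zpowers q) z S₀ :=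
    Inst.PosT.of_start B.toStart (fun s hs => B.tc s (hmem s hs)) (fun s hs => B.zc s (hmem s hs))
  have hz : orderOf (z : G) = 2 := orderOf_eq_prime (by rw [pow_two]; exact B.zz) B.z1
  have hO : pPrimeCore 2 ↥(centralizer ({(z : G)} : Set G)) = ⊥ := by
    have h1 : (pPrimeCore 2 ↥(centralizer ({(z : G)} : Set G))).map (centralizer ({(z : G)} : Set G)).subtype = ⊥ :=
      C.bal z hz
    exact (map_eq_bot_iff_of_injective _ (centralizer ({(z : G)} : Set G)).subtype_injective).1 h1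
  obtain ⟨hat, hbt, Q₁, Q₂, S, hB, hsw, hmv, e1, e2, -⟩ := Inst.exists_base P h.ft hO
  have hN' : ∀ c : G, c * c = 1 → c ≠ 1 → ∀ L : Subgroup G, CompOf c L → ¬ NI3.HasY ↥L := by
    intro c cc c1 M hM
    exact hN G C c M (orderOf_eq_prime (by rw [pow_two]; exact cc) c1) hM
  have hrefl := TS.refl C hSp St (by rw [hcard]; norm_num) P.tt P.t1 P.Kt P.nK h.ft.kh h.rf hN'
    hB.sol hB.s₁ hB.s₂ rfl rfl e1 e2 (Q := (zpowers q).subgroupOf (centralizer ({(z : G)} : Set G)))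
    (fun x hx hxK => mem_subgroupOf.2 (P.cK x (congrArg Subtype.val hx) fun y hy => (hxK y hy).symm))
  have hyp : HypT _ _ _ _ Q₁ Q₂ _ S :=
    { toBaseT := hB
      swap := hsw
      mv := hmv
      refl := fun c hc cc hcQ M hM h1 _ => hrefl c hc cc hcQ M hM (Or.inl h1) }
  rcases hyp.main with hca | hn | ⟨M, hM, -, h1, -, hc⟩
  · exact NIB.End.false_of_CA hGW C hz rfl hca
  · exact classical_of_normal C h.ft.kh h.ft.j1 P.Kt (fun g hg ho => P.mem_of_odd h.ft.out hg ho) rfl hn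
  · refine CaseC.EndComp.false_of_cent I C hz hM (h1 hB.s₁.zQ) (y := ⟨z, mem_centralizer_singleton_iff.2 rfl⟩) ?_
    intro y hy
    rcases hc y hy with e3 | e3
    · rw [e3]; exact one_mem _
    · rw [e3]; exact mem_zpowers _

end Cfsg.Agent.OddHalf.D6.QThree.TS.RowTside

end

-- merged: Cfsg.Agent.OddHalf.D6.QThree.L43.RowFin
section

/-!
# ODD half, D6, `q = 3`: **the row `L₄(3)`** (helper890, helper76, helper253, helper296, helper948, helper577, …)

`row`: the field `l4` of `D6.Cut.Three`.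
-/

set_option autoImplicit false

namespace Cfsg.Agent.OddHalf.D6.QThree.L43.RowFin

open Subgroup Cfsg Cfsg.Agent.OddHalf Cfsg.Agent.OddHalf.Iface

universe u

/-- (alpha) -/
theorem alpha (hSp : Pump.SpOrd.{u}) (hN : NI3.NoThree.{u}) : Row.Alpha.{u} := by
  intro G _ C K S hcard t z R i j k l a b O κ L
  refine RowTS.alpha C hSp S (by rw [hcard]; norm_num) ?_ O κ L
  intro c cc c1 M hM
  exact hN G C c M (orderOf_eq_prime (by rw [pow_two]; exact cc) c1) hM

/-- **the row `L₄(3)`** -/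
theorem row (hGW : SylowSp4.Hyps.GW.{u}) (I : Intr2.{u}) (hS : CaseM.IntrSign.{u})
    (hcy : ∀ (G : Type u) [Group G], Ctx G → ∀ K : Subgroup G, Std0 G K → PRankLE 2 1 ↥(centralizer (K : Set G)) →
      Cyc K) (hSp : Pump.SpOrd.{u}) (hN : NI3.NoThree.{u}) :
    D6.Cut.Row.{u} (fun X _ => ∃ (F : Type) (_ : Field F) (_ : Fintype F), Fintype.card F = 3 ∧
      Nonempty (X ≃* Matrix.ProjectiveSpecialLinearGroup (Fin 4) F)) :=
  Row.row_of hGW I hS hcy hSp hN (TS.RowTside.tside hGW I hSp hN) (alpha hSp hN)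

end Cfsg.Agent.OddHalf.D6.QThree.L43.RowFin

end

-- merged: Cfsg.Agent.OddHalf.D6.RThree.QLe
section

/-!
# ODD half, D6, `L₃(3)`, `U₃(3)`: `Q ≤ O₂(X)` (helper783)

`axb`: the `A × B` lemma for an involution and an element of odd order; `Hyp.Q_le`.
-/

set_option autoImplicit false

namespace Cfsg.Agent.OddHalf.D6.RThree

open Subgroup Cfsg
open Cfsg.Agent.OddHalf.D6.QThree.NISide

/-- **`A × B` lemma** -/
theorem axb {X : Type*} [Group X] [Finite X] {F : Subgroup X} {t a : X} (tt : t * t = 1) (hF : IsPGroup 2 F)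
    (htF : ∀ f ∈ F, t * f * t⁻¹ ∈ F) (haF : ∀ f ∈ F, a * f * a⁻¹ ∈ F) (hat : a * t = t * a)
    (ho : Odd (orderOf a)) (h : ∀ f ∈ F, f * t = t * f → f * a = a * f) : ∀ f ∈ F, f * a = a * f := by
  have : Fact (Nat.Prime 2) := ⟨Nat.prime_two⟩
  have ti : t⁻¹ = t := inv_eq_of_mul_eq_one_right tt
  let P : Subgroup X :=
    { carrier := {x | x ∈ F ∨ x * t ∈ F}
      one_mem' := Or.inl F.one_mem
      mul_mem' := by
        rintro x y (hx | hx) (hy | hy)
        · exact Or.inl (F.mul_mem hx hy)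
        · right
          show x * y * t ∈ F
          rw [mul_assoc]; exact F.mul_mem hx hy
        · right
          have : x * y * t = (x * t) * (t * y * t⁻¹) := by
            rw [ti]
            calc x * y * t = x * (1 * (y * t)) := by group
              _ = x * (t * t * (y * t)) := by rw [tt]
              _ = x * t * (t * y * t) := by group
          show x * y * t ∈ F
          rw [this]; exact F.mul_mem hx (htF y hy)
        · left
          have h1 := htF _ hy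
          have : x * y = (x * t) * (t * (y * t) * t⁻¹) := by
            calc x * y = x * (1 * y) := by group
              _ = x * (t * t * y) := by rw [tt]
              _ = (x * t) * (t * (y * t) * t⁻¹) := by group
          show x * y ∈ F
          rw [this]; exact F.mul_mem hx h1
      inv_mem' := by
        rintro x (hx | hx)
        · exact Or.inl (F.inv_mem hx)
        · right
          have h1 := htF _ (F.inv_mem hx)
          have : x⁻¹ * t = t * (x * t)⁻¹ * t⁻¹ := by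
            rw [mul_inv_rev, ti]
            calc x⁻¹ * t = 1 * x⁻¹ * t := by group
              _ = t * t * x⁻¹ * t := by rw [tt]
              _ = t * (t * x⁻¹) * t := by group
          show x⁻¹ * t ∈ F
          rw [this]; exact h1 }
  have hmP : ∀ x, x ∈ P ↔ x ∈ F ∨ x * t ∈ F := fun x => Iff.rfl
  have hFP : F ≤ P := fun x hx => Or.inl hx
  have htP : t ∈ P := Or.inr (by rw [tt]; exact F.one_mem)
  have hPp : IsPGroup 2 P := by
    have htN : zpowers t ≤ normalizer (F : Set X) := by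
      rw [zpowers_le, mem_normalizer_iff]
      intro b
      refine ⟨fun hb => htF b hb, fun hb => ?_⟩
      have h1 := htF _ hb
      have h2 : t * (t * b * t⁻¹) * t⁻¹ = b := by
        calc t * (t * b * t⁻¹) * t⁻¹ = (t * t) * b * (t * t)⁻¹ := by group
          _ = b := by rw [tt]; group
      rwa [h2] at h1
    have h1 : IsPGroup 2 ↥(F ⊔ zpowers t : Subgroup X) :=
      IsPGroup.to_sup_of_normal_left' hF (QThree.NI.isPGroup_zp tt) htN
    refine h1.to_le fun x hx => ?_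
    rcases hx with hx | hx
    · exact (le_sup_left : F ≤ _) hx
    · have e : x = x * t * t := by rw [mul_assoc, tt, mul_one]
      rw [e]
      exact mul_mem ((le_sup_left : F ≤ F ⊔ zpowers t) hx) ((le_sup_right : zpowers t ≤ F ⊔ zpowers t) (mem_zpowers t))
  set E : Subgroup P := (centralizer ({a} : Set X)).subgroupOf P with hE
  have hmE : ∀ x : P, x ∈ E ↔ (x : X) * a = a * x := fun x => by
    rw [hE, mem_subgroupOf, mem_centralizer_singleton_iff]
  have htE : (⟨t, htP⟩ : P) ∈ E := (hmE _).2 hat.symm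
  -- elements of `F` normalising `E`
  have key : ∀ n : P, (n : X) ∈ F → (∀ e ∈ E, n * e * n⁻¹ ∈ E) → n ∈ E := by
    intro n hnF hn
    have h1 := (hmE _).1 (hn _ htE)
    have h2 : (n : X) * t * (n : X)⁻¹ * a = a * (n * t * (n : X)⁻¹) := h1
    set w : X := (n : X)⁻¹ * (a * n * a⁻¹) with hw
    have hwF : w ∈ F := F.mul_mem (F.inv_mem hnF) (haF _ hnF)
    have hta : t * a⁻¹ = a⁻¹ * t := ((show Commute a t from hat).inv_left.eq).symm
    have hwt : w * t = t * w := by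
      have h3 : a * (n * t * (n : X)⁻¹) * a⁻¹ = n * t * (n : X)⁻¹ := by rw [← h2]; group
      calc w * t = (n : X)⁻¹ * (a * n * (a⁻¹ * t)) := by rw [hw]; group
        _ = (n : X)⁻¹ * (a * n * (t * a⁻¹)) := by rw [hta]
        _ = (n : X)⁻¹ * (a * (n * t * (n : X)⁻¹) * a⁻¹) * (a * n * a⁻¹) := by group
        _ = (n : X)⁻¹ * (n * t * (n : X)⁻¹) * (a * n * a⁻¹) := by rw [h3]
        _ = t * w := by rw [hw]; group
    have hwa : Commute w a := h w hwF hwt
    have h4 : a * n = n * w * a := by rw [hw]; group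
    have h5 : ∀ k : ℕ, a ^ k * n = n * w ^ k * a ^ k := by
      intro k
      induction k with
      | zero => group
      | succ k ih =>
        calc a ^ (k + 1) * n = a * (a ^ k * n) := by rw [pow_succ']; group
          _ = (a * n) * w ^ k * a ^ k := by rw [ih]; group
          _ = n * w * (a * w ^ k) * a ^ k := by rw [h4]; group
          _ = n * w * (w ^ k * a) * a ^ k := by rw [(hwa.pow_left k).eq]
          _ = n * w ^ (k + 1) * a ^ (k + 1) := by rw [pow_succ' w, pow_succ' a]; group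
    have h6 := h5 (orderOf a)
    rw [pow_orderOf_eq_one, one_mul, mul_one] at h6
    have h7 : w ^ orderOf a = 1 := (mul_eq_left.1 h6.symm)
    have h8 : w = 1 := by
      obtain ⟨k, hk⟩ := hF ⟨w, hwF⟩
      have hk' : w ^ 2 ^ k = 1 := congrArg Subtype.val hk
      have h9 : Nat.Coprime (2 ^ k) (orderOf a) := Nat.Coprime.pow_left _ (Nat.coprime_two_left.2 ho)
      exact orderOf_eq_one_iff.1 (Nat.eq_one_of_dvd_coprimes h9 (orderOf_dvd_of_pow_eq_one hk')
        (orderOf_dvd_of_pow_eq_one h7))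
    rw [hmE, h4, h8, mul_one]
  have hnil : Group.IsNilpotent P := hPp.isNilpotent
  have hEt : E = ⊤ := by
    by_contra hne
    have h1 := Group.normalizerCondition_of_isNilpotent (G := P) E (lt_top_iff_ne_top.2 hne)
    obtain ⟨n, hn, hnE⟩ := SetLike.exists_of_lt h1
    have hn' : ∀ e ∈ E, n * e * n⁻¹ ∈ E := fun e he => (mem_normalizer_iff.1 hn e).1 he
    rcases n.2 with hnF | hnF
    · exact hnE (key n hnF hn')
    · apply hnE
      have h2 : n * ⟨t, htP⟩ ∈ E := by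
        refine key (n * ⟨t, htP⟩) hnF fun e he => ?_
        have h3 := hn' _ (E.mul_mem (E.mul_mem htE he) (E.inv_mem htE))
        have h4 : n * ⟨t, htP⟩ * e * (n * ⟨t, htP⟩)⁻¹ = n * (⟨t, htP⟩ * e * (⟨t, htP⟩ : P)⁻¹) * n⁻¹ := by group
        rw [h4]; exact h3
      have h3 := E.mul_mem h2 (E.inv_mem htE)
      rwa [mul_inv_cancel_right] at h3
  intro f hf
  have h1 : (⟨f, hFP hf⟩ : P) ∈ E := by rw [hEt]; exact mem_top _
  exact (hmE _).1 h1

namespace Hyp

variable {X : Type*} [Group X] {z t a : X} {Q : Subgroup X}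

/-- **`Q ≤ F`** -/
theorem Q_le [Finite X] (h : Hyp z t a Q) {F : Subgroup X} (hn : F.Normal) (hp : IsPGroup 2 F)
    (hself : ∀ g : X, (∀ x ∈ F, g * x = x * g) → g ∈ F) : Q ≤ F := by
  by_contra hQF
  -- `Q ∩ F ≤ ⟨z⟩`
  have hQ1 : ∀ q ∈ Q, q ∈ F → q = 1 ∨ q = z := by
    intro q hq hqF
    by_contra hcon
    push Not at hcon
    exact hQF (h.s.gen h.zc h.zz h.z1 hq hcon.1 hcon.2 hqF (hn.conj_mem q hqF a))
  have ha : ∀ f ∈ F, f * a = a * f := by
    refine axb h.tt hp (fun f hf => hn.conj_mem f hf t) (fun f hf => hn.conj_mem f hf a) h.s.a_t h.ao ?_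
    intro d hd hdt
    obtain ⟨r, hr, hy⟩ := h.rad (N := F ⊓ centralizer ({t} : Set X))
      (fun n hn' => mem_centralizer_singleton_iff.1 hn'.2) (hp.to_le inf_le_left) (by
        intro g hg n hn'
        refine ⟨hn.conj_mem n hn'.1 g, mem_centralizer_singleton_iff.2 ?_⟩
        have c1 : Commute g t := hg
        have c2 : Commute n t := mem_centralizer_singleton_iff.1 hn'.2
        exact ((c1.mul_left c2).mul_left c1.inv_left).eq) d ⟨hd, mem_centralizer_singleton_iff.2 hdt⟩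
    set y := d * r with hyd
    have hdy : d = y * r⁻¹ := by rw [hyd, mul_inv_cancel_right]
    have cya : Commute y a := h.YJ y hy a h.s.a_t h.ao
    have hr'Q : a * r * a⁻¹ ∈ Q := h.s.aQ r hr
    have e1 : d⁻¹ * (a * d * a⁻¹) = r * (a * r * a⁻¹)⁻¹ := by
      calc d⁻¹ * (a * d * a⁻¹) = r * y⁻¹ * ((a * y) * r⁻¹ * a⁻¹) := by rw [hdy]; group
        _ = r * y⁻¹ * ((y * a) * r⁻¹ * a⁻¹) := by rw [cya.eq]
        _ = r * (a * r * a⁻¹)⁻¹ := by group
    have h1 : r * (a * r * a⁻¹)⁻¹ ∈ F := by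
      rw [← e1]
      exact F.mul_mem (F.inv_mem hd) (hn.conj_mem d hd a)
    have hrz : r = 1 ∨ r = z := by
      by_contra hcon
      push Not at hcon
      have hne := h.s.act r hr hcon.1 hcon.2
      rcases hQ1 _ (Q.mul_mem hr (Q.inv_mem hr'Q)) h1 with e | e
      · apply hne
        rw [mul_inv_eq_one] at e
        rw [← e]
      · apply hne
        rw [mul_inv_eq_iff_eq_mul] at e
        have c1 : Commute (z * (a * r * a⁻¹)) (a * r * a⁻¹) :=
          (show Commute (a * r * a⁻¹) z from h.zc _).symm.mul_left (Commute.refl _)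
        rw [← e] at c1
        exact c1.eq
    have cra : Commute r a := by
      rcases hrz with e | e
      · rw [e]; exact Commute.one_left a
      · rw [e]; exact (show Commute a z from h.zc a).symm
    rw [hdy]
    exact (cya.mul_left cra.inv_left).eq
  have haF : a ∈ F := hself a fun x hx => (ha x hx).symm
  have ha1 : a = 1 := eq_one_of_odd (hp.to_le (zpowers_le.2 haF)) h.ao
  obtain ⟨q, hq, hq1, hqz⟩ := h.s.exists_ne
  apply h.s.act q hq hq1 hqz
  rw [ha1]
  group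

end Hyp

end Cfsg.Agent.OddHalf.D6.RThree

end

-- merged: Cfsg.Agent.OddHalf.D6.RThree.Row
section

/-!
# ODD half, D6: the rows `L₃(3)` and `U₃(3)` (helper783)
-/

set_option autoImplicit false

namespace Cfsg.Agent.OddHalf.D6.RThree.Row

open Subgroup Cfsg Cfsg.Agent.OddHalf.Iface Cfsg.Agent.OddHalf.Front.FE
open Cfsg.Agent.OddHalf.D5

universe u

/-- **E** -/
def PE : Prop :=
  ∀ {X : Type u} [Group X] [Finite X] {z t a : X} {Q : Subgroup X}, Hyp z t a Q → ∀ {F : Subgroup X},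
    F.Normal → IsPGroup 2 F → z ∈ F → (∀ x ∈ F, x * x = 1 ∨ x * x = z) →
    (∀ x ∈ F, ∀ y ∈ F, x * y = y * x ∨ x * y = z * (y * x)) →
    (∀ x ∈ F, (∀ y ∈ F, x * y = y * x) → x = 1 ∨ x = z) →
    (∀ g : X, (∀ x ∈ F, g * x = x * g) → g ∈ F) → Nat.card F ≤ 128

/-- **F** -/
def PF : Prop :=
  ∀ {G : Type u} [Group G], Ctx G → ∀ {z : G}, orderOf z = 2 → Odd (centralizer ({z} : Set G)).index →
    SixAut.SymHyp z → (SixAut.SymF z (SixAut.SymHyp.FF z) → Nat.card ↥(SixAut.SymHyp.FF z) ≤ 128) →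
    (189 ∣ Nat.card G ∨ 351 ∣ Nat.card G) → False

/-- `F*(X)` is a 2-group -/
theorem isPGroup_star {X : Type*} [Group X] [Finite X] (hO : pPrimeCore 2 X = ⊥)
    (hn : ∀ L : Subgroup X, ¬ IsComponent L) : IsPGroup 2 ↥(generalizedFittingSubgroup X) := by
  have : Fact (Nat.Prime 2) := ⟨Nat.prime_two⟩
  have h1 : layer X = ⊥ := by
    rw [eq_bot_iff]
    exact Cfsg.Agent.SignalizersComponents.Components.layer_le_iff.mpr fun L hL => absurd hL (hn L)
  have h2 : generalizedFittingSubgroup X = pCore 2 X := by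
    rw [generalizedFittingSubgroup, h1, bot_sup_eq,
      Cfsg.Agent.SignalizersComponents.PConstrained.fittingSubgroup_eq_pCore_of_pPrimeCore_eq_bot 2 hO]
  rw [h2]
  exact Cfsg.Agent.Lib.Cores.pCore_isPGroup 2

/-- **the row** -/
theorem row (hGW : SylowSp4.Hyps.GW.{u}) (hKO : KO.{u}) (hE : PE.{u}) (hF : PF.{u}) {G : Type u} [Group G]
    (C : Ctx G) {K : Subgroup G} (S : Std G K) (hcyc : Cyc K) (hcen : center ↥K = ⊥) {z : ↥K}
    {Q : Subgroup ↥K} (f : Facts.One z Q) (hK : Nat.card K ≤ 6048) : False := by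
  have hfin := C.fin
  have hsimp := C.simple
  obtain ⟨t, q, st⟩ := exists_start C S hcyc hcen
  have E : Front.Emb K t q z Q := ⟨st, f⟩
  obtain ⟨T, F⟩ := E.facts
  obtain ⟨Fr, Sy, hTS, hSz, ⟨x, hxS, hxN, hxT, hxt, hxz⟩, hnc, htH⟩ :=
    CycW.main F (commutator_eq_top C) (index_ne_two C)
  have hz1 : (z : G) ≠ 1 := fun e => f.z1 (Subtype.ext e)
  have hzz : (z : G) * z = 1 := congrArg Subtype.val f.zz
  have hz : orderOf (z : G) = 2 := orderOf_eq_prime (by rw [pow_two]; exact hzz) hz1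
  have hO := Soft.core_eq_bot (C.bal z hz)
  obtain ⟨a, h⟩ := E.hyp hO htH ⟨x, hxt, hxz⟩
  have hno := no_comp hKO hGW C S hK hz fun M hM => h.z_mem hM
  have hP := isPGroup_star hO hno
  have hJ := not_normal hGW C hz h
  have hsym : SixAut.SymHyp (z : G) := by
    refine ⟨hP, fun A hA h2 b hb => ?_⟩
    rcases h.elem hJ hA h2 b hb with e | e
    · left; rw [e]; rfl
    · right; rw [e]
  refine hF C hz ?_ hsym ?_ ?_
  · -- the index of `C(z)` is odd
    have h1 : (Sy : Subgroup G) ≤ centralizer ({(z : G)} : Set G) := fun s hs =>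
      mem_centralizer_singleton_iff.2 (hSz s hs)
    have : Fact (Nat.Prime 2) := ⟨Nat.prime_two⟩
    have h2 := Sy.not_dvd_index
    have h3 : (centralizer ({(z : G)} : Set G)).index ∣ (Sy : Subgroup G).index := index_dvd_of_le h1
    rw [← Nat.not_even_iff_odd, even_iff_two_dvd]
    exact fun h4 => h2 (h4.trans h3)
  · intro hsF
    rw [SixAut.SymHyp.card_FF]
    have hmem : ∀ {b : ↥(centralizer ({(z : G)} : Set G))},
        b ∈ generalizedFittingSubgroup ↥(centralizer ({(z : G)} : Set G)) → (b : G) ∈ SixAut.SymHyp.FF (z : G) :=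
      fun {b} hb => ⟨b, hb, rfl⟩
    have hN : (generalizedFittingSubgroup ↥(centralizer ({(z : G)} : Set G))).Normal :=
      ClassificationK.GF2Basics.genFitting_normal_of_isPGroup hP
    have hinj : ∀ {b : ↥(centralizer ({(z : G)} : Set G))}, (b : G) ∈ SixAut.SymHyp.FF (z : G) →
        b ∈ generalizedFittingSubgroup ↥(centralizer ({(z : G)} : Set G)) := by
      rintro b ⟨c, hc, e⟩
      have : c = b := Subtype.ext e
      rwa [← this]
    refine hE h hN hP (hinj hsF.zF) ?_ ?_ ?_ ?_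
    · intro x hx
      rcases hsF.sq x (hmem hx) with e | e
      · exact Or.inl (Subtype.ext e)
      · exact Or.inr (Subtype.ext e)
    · intro x hx y hy
      rcases hsF.comm x (hmem hx) y (hmem hy) with e | e
      · exact Or.inl (Subtype.ext e)
      · exact Or.inr (Subtype.ext e)
    · intro x hx hc
      rcases hsF.cen x (hmem hx) (by
        rintro _ ⟨y, hy, rfl⟩
        exact congrArg Subtype.val (hc y hy)) with e | e
      · exact Or.inl (Subtype.ext e)
      · exact Or.inr (Subtype.ext e)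
    · intro g hg
      apply hinj
      apply hsF.self
      rintro _ ⟨y, hy, rfl⟩
      exact congrArg Subtype.val (hg y hy)
  · have h1 : Nat.card K ∣ Nat.card G := card_subgroup_dvd_card K
    rcases f.big with h2 | h2
    · exact Or.inl (h2.trans h1)
    · exact Or.inr (h2.trans h1)

end Cfsg.Agent.OddHalf.D6.RThree.Row

end

-- merged: Cfsg.Agent.OddHalf.D6.RThree.Final
section

/-!
# ODD half, D6: the rows `L₃(3)` and `U₃(3)` of `Cut.Three` (helper783)

`l3`, `u3`, from S0483, S1758, S1759, S1762 and the rows of characteristic 2 type.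
-/

set_option autoImplicit false

namespace Cfsg.Agent.OddHalf.D6.RThree.Final

open Subgroup Cfsg Cfsg.Agent.OddHalf.Iface

universe u

/-- what the rows use -/
structure Given : Prop where
  gw : SylowSp4.Hyps.GW.{u}
  rows : Small.Excl.Rows
  p1758 : D8.HS.Elim.P1758.{u}
  p1759 : Kill.P1759.{u}
  h1762 : D8.JTwo.Large.H1762.{u}

theorem ko : KO.{u} := fun _ _ _ hq h2 hz hk hc => OrdRank.rank hq h2 hz hk hc

theorem pe : Row.PE.{u} := by
  intro X _ _ z t a Q h F hn hp hzF hsq hcm hcen hself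
  exact h.card_le hn hp hzF hsq hcm hcen hself

theorem pf (g : Given.{u}) : Row.PF.{u} := by
  intro G _ C z hz hodd hS hF hK
  exact Kill.kill g.rows g.p1758 g.p1759 g.h1762 C hz hodd hS hF hK

/-- the row of the groups with the facts `Facts.One` -/
theorem row (g : Given.{u}) {P : (X : Type u) → [Group X] → Prop}
    (hP : ∀ (X : Type u) [Group X] [Finite X], P X → ∃ (z : X) (Q : Subgroup X), Facts.One z Q ∧ Nat.card X ≤ 6048) :
    Cut.Row.{u} P := by
  intro G _ C K S hcyc hcen h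
  have := C.fin
  obtain ⟨z, Q, f, hc⟩ := hP ↥K h
  exact Row.row g.gw ko pe (pf g) C S hcyc hcen f hc

/-- **`L₃(3)`** -/
theorem l3 (g : Given.{u}) : Cut.Row.{u} (fun X _ => ∃ (F : Type) (_ : Field F) (_ : Fintype F),
    Fintype.card F = 3 ∧ Nonempty (X ≃* Matrix.ProjectiveSpecialLinearGroup (Fin 3) F)) :=
  row g fun _ _ _ ⟨_, _, _, hF, ⟨e⟩⟩ => L33Facts.exists_one_card hF e

/-- **`U₃(3)`** -/
theorem u3 (g : Given.{u}) : Cut.Row.{u} (fun X _ => ∃ (F : Type) (_ : Field F) (_ : Fintype F),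
    Fintype.card F = 9 ∧ Nonempty (X ≃* PSU 3 F 3)) :=
  row g fun _ _ _ ⟨_, _, _, hF, ⟨e⟩⟩ => U33.exists_one_card hF e

end Cfsg.Agent.OddHalf.D6.RThree.Final

end

-- merged: Cfsg.Agent.OddHalf.D6.RThree.Plug
section

/-!
# ODD half, D6: the rows `L₃(3)` and `U₃(3)`, no hypotheses (helper783)
-/

set_option autoImplicit false

namespace Cfsg.Agent.OddHalf.D6.RThree.Plug

open Subgroup Cfsg

universe u

theorem given : Final.Given.{u} where
  gw _ _ _ _ S n hn h := Cfsg.Agent.S0483.result S n hn h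
  rows := Small.RowsAll.rows
  p1758 _ _ _ _ hG z hz hQ := Cfsg.Agent.S1758.result hG z hz hQ
  p1759 _ _ _ z hz hQ hE h32 hL hL' := Cfsg.Agent.S1759.result z hz hQ hE h32 hL hL'
  h1762 _ _ _ _ hG z hz hE hc := LargeExtra.AsmSeven.final_of hG z hz hE hc
    (fun s hs e hn => Cfsg.Agent.S1716.result s hs z hz e hn)
    (fun Q _ hF hQ hc e hn => Cfsg.Agent.S1719.result z hz Q hF hQ hc e hn)

/-- **`L₃(3)`** -/
theorem l3 : Cut.Row.{u} (fun X _ => ∃ (F : Type) (_ : Field F) (_ : Fintype F),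
    Fintype.card F = 3 ∧ Nonempty (X ≃* Matrix.ProjectiveSpecialLinearGroup (Fin 3) F)) := Final.l3 given

/-- **`U₃(3)`** -/
theorem u3 : Cut.Row.{u} (fun X _ => ∃ (F : Type) (_ : Field F) (_ : Fintype F),
    Fintype.card F = 9 ∧ Nonempty (X ≃* PSU 3 F 3)) := Final.u3 given

end Cfsg.Agent.OddHalf.D6.RThree.Plug

end

-- merged: Cfsg.Agent.OddHalf.D7.Final
section

/-!
# Node D7 from its rows (helper186, integrator)

`Rows`: one node for each family of groups of Lie type in characteristic 2 (families of `D7/Cases.lean`).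
`d7_of_rows : Rows → Iface.D7`. When a row is proved it is filled in here.
-/

set_option autoImplicit false

namespace Cfsg.Agent.OddHalf.D7.Final

open Cfsg Cfsg.Agent.OddHalf.Iface Cfsg.Agent.OddHalf.D7.Cases

universe u

/-- The rows of node D7. -/
structure Rows : Prop where
  l : Node.{u} @FamL.{u}
  u : Node.{u} @FamU.{u}
  sp : Node.{u} @FamSp'.{u}
  oPlus : Node.{u} @FamOPlus'.{u}
  oMinus : Node.{u} @FamOMinus.{u}
  f4 : Node.{u} @FamF4'.{u}
  e6 : Node.{u} @FamE6.{u}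
  e7 : Node.{u} @FamE7.{u}
  e8 : Node.{u} @FamE8.{u}
  te6 : Node.{u} @Fam2E6.{u}
  tf4 : Node.{u} @Fam2F4.{u}
  tits : Node.{u} @Lie.IsoTits.{u}

theorem d7_of_rows (R : Rows.{u}) : D7.{u} :=
  d7_of R.l R.u R.sp R.oPlus R.oMinus R.f4 R.e6 R.e7 R.e8 R.te6 R.tf4 R.tits

end Cfsg.Agent.OddHalf.D7.Final

end

-- merged: Cfsg.Agent.OddHalf.D7Ex.NdD
section

/-!
# The node data for `D_{n+2}`, `n ≥ 3` (ODD D7, `q = 2`; helper158)

`j = 1`, `o = 0`, `f : Fin n ↪ Fin (n + 2)`, `i ↦ i + 2`, `κ = 0`: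
* `ndI` : `NdI.NdI` at every dominant root; `hnb`; `haut` : the automorphisms of `J` fixing `κ`.
-/

set_option autoImplicit false
set_option linter.unusedSectionVars false

namespace Cfsg.Agent.OddHalf.D7Ex.NdD

open CoxeterSystem Cfsg.Agent.ChevalleyStructure.CoxeterGeom Cfsg.Agent.Tits.Roots Cfsg.Agent.Tits.Core
  Cfsg.Agent.Nodes.Reps Cfsg.Agent.Nodes.Coroot Cfsg.Agent.OddHalf.SL.Index
  Cfsg.Agent.KFacts.SLRow Cfsg.Agent.Nodes.TypeD Cfsg.Agent.KFacts.SLRow.OmegaPlus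

/-- the embedding of `J` -/
def f (n : ℕ) : Fin n ↪ Fin (n + 2) := ⟨fun i => ⟨i + 2, by have := i.2; omega⟩, fun a b e => by
  have := congrArg Fin.val e
  exact Fin.ext (by simpa using this)⟩

theorem f_val {n : ℕ} (i : Fin n) : (f n i : ℕ) = i + 2 := rfl

/-- adjacency in `J` -/
theorem M_three {n : ℕ} (i k : Fin n) : M n (f n i) (f n k) = 3 ↔
    ((k : ℕ) + 1 < n ∧ (i : ℕ) + 1 = k) ∨ ((k : ℕ) + 1 = n ∧ (i : ℕ) + 2 = k) ∨
    ((i : ℕ) + 1 < n ∧ (k : ℕ) + 1 = i) ∨ ((i : ℕ) + 1 = n ∧ (k : ℕ) + 2 = i) := by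
  have hi := i.2
  have hk := k.2
  rw [M_apply]
  by_cases h1 : f n i = f n k
  · rw [if_pos h1]
    have h3 : (i : ℕ) = k := congrArg Fin.val ((f n).injective h1)
    constructor <;> intro h <;> omega
  · have h3 : (i : ℕ) ≠ k := fun e => h1 (congrArg (f n) (Fin.ext e))
    rw [if_neg h1]
    by_cases h2 : Cfsg.Agent.Nodes.TypeD.Adj (f n i) (f n k) ∨ Cfsg.Agent.Nodes.TypeD.Adj (f n k) (f n i)
    · rw [if_pos h2]
      unfold Cfsg.Agent.Nodes.TypeD.Adj at h2
      rw [f_val, f_val] at h2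
      constructor <;> intro h <;> omega
    · rw [if_neg h2]
      unfold Cfsg.Agent.Nodes.TypeD.Adj at h2
      rw [f_val, f_val] at h2
      constructor <;> intro h <;> omega

variable {n : ℕ} {W : Type*} [Group W] [Finite W] {A : Fin (n + 2) → Fin (n + 2) → ℤ}

theorem adj (cs : CoxeterSystem (M n) W) (h : IsCartan (M n) A) {a b : Fin (n + 2)} (hab : M n a b = 3) :
    Bf A (sr a) (sr b) = -1 := by
  rw [DomE.bf_pairing cs h (fun i j => (M_ne n i j).1) (fun i j => (M_ne n i j).2), Cfsg.Agent.Nodes.ZFam.pairing_sr']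
  exact Hirr.cartan_adj h hab

theorem nadj (cs : CoxeterSystem (M n) W) (h : IsCartan (M n) A) {a b : Fin (n + 2)} (hab : M n a b = 2) :
    Bf A (sr a) (sr b) = 0 := by
  rw [DomE.bf_pairing cs h (fun i j => (M_ne n i j).1) (fun i j => (M_ne n i j).2), Cfsg.Agent.Nodes.ZFam.pairing_sr']
  exact Hirr.cartan_nadj h hab

/-- **The node data at the dominant root.** -/
theorem ndI (hn : 3 ≤ n) (cs : CoxeterSystem (M n) W) (h : IsCartan (M n) A) {r : Fin (n + 2) → ℤ}
    (hr : IsRoot cs h r) (hd : ∀ i, 0 ≤ cpr cs h (sr i) r) :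
    NdI.NdI cs h (f n) 1 ⟨0, by omega⟩ r 0 := by
  obtain ⟨h1, h2⟩ := DomD.dom_D cs (by omega) h hr hd
  have v1 : ((1 : Fin (n + 2)) : ℕ) = 1 := rfl
  have v0 : ((0 : Fin (n + 2)) : ℕ) = 0 := rfl
  have key : ∀ b : Fin (n + 2), b ≠ 1 → (∀ i, f n i ≠ b) → b = 0 := by
    intro b hb hf
    apply Fin.ext
    rw [v0]
    have hb1 : (b : ℕ) ≠ 1 := fun e => hb (Fin.ext e)
    by_contra h0
    have hb2 := b.2
    exact hf ⟨(b : ℕ) - 2, by omega⟩ (Fin.ext (by rw [f_val]; show (b : ℕ) - 2 + 2 = b; omega))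
  exact
    { hr := hr
      dj := h1
      di := h2
      fj := fun i e => by
        have := congrArg Fin.val e
        rw [f_val, v1] at this
        omega
      kj := by
        refine adj cs h ?_
        rw [M_apply, if_neg (fun e => by
          have := congrArg Fin.val e
          rw [f_val, v1] at this
          omega), if_pos]
        right
        left
        rw [f_val, v1]
        show 0 + 2 < n + 1 ∧ 1 + 1 = 0 + 2
        omega
      nj := fun i hi => by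
        have hi0 : (i : ℕ) ≠ 0 := fun e => hi (Fin.ext e)
        have hi2 := i.2
        refine nadj cs h ?_
        rw [M_apply, if_neg (fun e => by
          have := congrArg Fin.val e
          rw [f_val, v1] at this
          omega), if_neg]
        unfold Cfsg.Agent.Nodes.TypeD.Adj
        rw [f_val, v1]
        omega
      rest := fun b hb hf i => by
        obtain rfl := key b hb hf
        have hi2 := i.2
        refine nadj cs h ?_
        rw [M_apply, if_neg (fun e => by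
          have := congrArg Fin.val e
          rw [f_val, v0] at this
          omega), if_neg]
        unfold Cfsg.Agent.Nodes.TypeD.Adj
        rw [f_val, v0]
        omega
      oj := fun e => by
        have := congrArg Fin.val e
        rw [v0, v1] at this
        omega
      of := fun i e => by
        have := congrArg Fin.val e
        rw [f_val, v0] at this
        omega
      full := fun i => by
        by_contra hcon
        push Not at hcon
        exact hcon.2.1 (key i hcon.1 hcon.2.2)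
      jo := by
        refine adj cs h ?_
        rw [M_apply, if_neg (fun e => by
          have := congrArg Fin.val e
          rw [v0, v1] at this
          omega), if_pos]
        left
        left
        rw [v0, v1]
        omega }

/-- every node of `J` has a neighbour in `J` -/
theorem hnb_M (hn : 3 ≤ n) (i : Fin n) : ∃ i', M n (f n i) (f n i') = 3 := by
  have hi := i.2
  by_cases h1 : (i : ℕ) + 2 < n
  · refine ⟨⟨i + 1, by omega⟩, (M_three _ _).2 (Or.inl ?_)⟩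
    show (i : ℕ) + 1 + 1 < n ∧ (i : ℕ) + 1 = i + 1
    omega
  · refine ⟨⟨n - 3, by omega⟩, (M_three _ _).2 (Or.inr (Or.inr ?_))⟩
    show ((i : ℕ) + 1 < n ∧ n - 3 + 1 = i) ∨ ((i : ℕ) + 1 = n ∧ n - 3 + 2 = i)
    omega

theorem hnb (hn : 3 ≤ n) (cs : CoxeterSystem (M n) W) (h : IsCartan (M n) A) (i : Fin n) :
    ∃ i', Bf A (sr (f n i)) (sr (f n i')) = -1 := by
  obtain ⟨i', hi'⟩ := hnb_M hn i
  exact ⟨i', adj cs h hi'⟩

/-- An automorphism of `J` fixing `κ` fixes the chain. -/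
theorem aut_chain (hn : 3 ≤ n) {σ : Equiv.Perm (Fin n)}
    (hσ : ∀ i k, M n (f n (σ i)) (f n (σ k)) = M n (f n i) (f n k))
    (h0 : σ ⟨0, by omega⟩ = ⟨0, by omega⟩) :
    ∀ d : ℕ, ∀ hd : d + 2 < n, σ ⟨d, by omega⟩ = ⟨d, by omega⟩ := by
  intro d
  induction d using Nat.strong_induction_on with
  | _ d ih =>
    intro hd
    rcases Nat.eq_zero_or_pos d with rfl | hd0
    · exact h0
    obtain ⟨m, rfl⟩ : ∃ m, d = m + 1 := ⟨d - 1, by omega⟩
    have h1 := ih m (by omega) (by omega)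
    have h2 : M n (f n (σ ⟨m + 1, by omega⟩)) (f n ⟨m, by omega⟩) = 3 := by
      have := hσ ⟨m + 1, by omega⟩ ⟨m, by omega⟩
      rw [h1] at this
      rw [this]
      refine (M_three _ _).2 (Or.inr (Or.inr (Or.inl ?_)))
      show m + 1 + 1 < n ∧ m + 1 = m + 1
      omega
    rw [M_three] at h2
    change (m + 1 < n ∧ (σ ⟨m + 1, _⟩ : ℕ) + 1 = m) ∨ (m + 1 = n ∧ (σ ⟨m + 1, _⟩ : ℕ) + 2 = m) ∨
      ((σ ⟨m + 1, _⟩ : ℕ) + 1 < n ∧ m + 1 = (σ ⟨m + 1, _⟩ : ℕ)) ∨
      ((σ ⟨m + 1, _⟩ : ℕ) + 1 = n ∧ m + 2 = (σ ⟨m + 1, _⟩ : ℕ)) at h2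
    rcases h2 with h2 | h2 | h2 | h2
    · exfalso
      have h3 := ih (m - 1) (by omega) (by omega)
      have h4 : σ ⟨m + 1, by omega⟩ = σ ⟨m - 1, by omega⟩ := by
        rw [h3]
        exact Fin.ext (show (σ ⟨m + 1, _⟩ : ℕ) = m - 1 by omega)
      have := congrArg Fin.val (σ.injective h4)
      change m + 1 = m - 1 at this
      omega
    · omega
    · exact Fin.ext (show (σ ⟨m + 1, _⟩ : ℕ) = m + 1 by omega)
    · omega

/-- An automorphism of `J` fixing `κ` permutes the two ends. -/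
theorem aut_end (hn : 3 ≤ n) {σ : Equiv.Perm (Fin n)}
    (hσ : ∀ i k, M n (f n (σ i)) (f n (σ k)) = M n (f n i) (f n k))
    (h0 : σ ⟨0, by omega⟩ = ⟨0, by omega⟩) {x : Fin n} (hx : n ≤ (x : ℕ) + 2) : n ≤ (σ x : ℕ) + 2 := by
  by_contra hcon
  push Not at hcon
  have h1 := aut_chain hn hσ h0 (σ x : ℕ) (by omega)
  have h2 : σ (σ x) = σ x := h1
  have h3 := σ.injective h2
  rw [h3] at hcon
  omega

/-- **The automorphisms of `J` fixing `κ`.** -/
theorem haut (hn : 3 ≤ n) : ∀ σ τ : Equiv.Perm (Fin n),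
    (∀ i k, M n (f n (σ i)) (f n (σ k)) = M n (f n i) (f n k)) → σ ⟨0, by omega⟩ = ⟨0, by omega⟩ →
    (∀ i k, M n (f n (τ i)) (f n (τ k)) = M n (f n i) (f n k)) → τ ⟨0, by omega⟩ = ⟨0, by omega⟩ →
    σ ≠ 1 → τ ≠ 1 → σ = τ := by
  -- an automorphism different from `1` interchanges the ends
  have key : ∀ σ : Equiv.Perm (Fin n), (∀ i k, M n (f n (σ i)) (f n (σ k)) = M n (f n i) (f n k)) →
      σ ⟨0, by omega⟩ = ⟨0, by omega⟩ → σ ≠ 1 → ∀ x : Fin n, n ≤ (x : ℕ) + 2 → σ x ≠ x := by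
    intro σ h1 h2 h3 x hx hfix
    apply h3
    ext y
    rw [Equiv.Perm.one_apply]
    by_cases hy : (y : ℕ) + 2 < n
    · exact congrArg Fin.val (aut_chain hn h1 h2 y hy)
    by_cases hxy : y = x
    · rw [hxy, hfix]
    have h4 := aut_end hn h1 h2 (x := y) (by omega)
    have h5 : σ y ≠ x := fun e => hxy (σ.injective (e.trans hfix.symm))
    have h6 : (σ y : ℕ) ≠ x := fun e => h5 (Fin.ext e)
    have h7 : (y : ℕ) ≠ x := fun e => hxy (Fin.ext e)
    have := (σ y).2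
    have := y.2
    have := x.2
    omega
  intro σ τ h1 h2 h3 h4 h5 h6
  ext x
  by_cases hx : (x : ℕ) + 2 < n
  · exact congrArg Fin.val ((aut_chain hn h1 h2 x hx).trans (aut_chain hn h3 h4 x hx).symm)
  · have e1 := aut_end hn h1 h2 (x := x) (by omega)
    have e2 := aut_end hn h3 h4 (x := x) (by omega)
    have e3 : (σ x : ℕ) ≠ x := fun e => key σ h1 h2 h5 x (by omega) (Fin.ext e)
    have e4 : (τ x : ℕ) ≠ x := fun e => key τ h3 h4 h6 x (by omega) (Fin.ext e)
    have := (σ x).2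
    have := (τ x).2
    have := x.2
    omega

end Cfsg.Agent.OddHalf.D7Ex.NdD

end

-- merged: Cfsg.Agent.OddHalf.D7.RowOPlus
section

/-!
# Node D7, the family `O⁺_{2m}(q)` (helper158, helper875, helper657, helper57)

`exTwo_D` : existence of the doubled root group for `D_{n+2}(2)`, `n ≥ 3`; `node_OPlus` : `Node @FamOPlus'`.
-/

set_option autoImplicit false
set_option linter.unusedSectionVars false

namespace Cfsg.Agent.OddHalf.D7.RowOPlus

open Cfsg
open CoxeterSystem Cfsg.Agent.ChevalleyStructure.CoxeterGeom Cfsg.Agent.Tits.Roots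
  Cfsg.Agent.OddHalf.D7.Cases Cfsg.Agent.OddHalf.D7Ex Cfsg.Agent.OddHalf.SL.Index Cfsg.Agent.OddHalf.D7Out

universe u

theorem exTwo_D {n : ℕ} (hn : 3 ≤ n) : RowSL.ExTwo.{u} (Cfsg.Agent.Nodes.TypeD.M n) := by
  refine RowD.exTwo_of (NdD.f n) 1 0 ⟨0, by omega⟩ (fun h _ hr hd => NdD.ndI hn _ h hr hd) (fun h i => ?_)
    (NdD.haut hn)
  obtain ⟨i', hi'⟩ := NdD.hnb_M hn i
  refine ⟨i', ?_⟩
  rw [HasPTwo.bf_sr_sr]
  exact Cfsg.Agent.KFacts.SLRow.Hirr.cartan_adj h
    (by rw [(Cfsg.Agent.Nodes.TypeD.M n).symmetric]; exact hi')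

/-- **Node D7 for the family `O⁺_{2m}(q)`.** -/
theorem node_OPlus : Node.{u} @FamOPlus'.{u} := RowSL.node_OPlus fun _ hn => exTwo_D hn

end Cfsg.Agent.OddHalf.D7.RowOPlus

end

-- merged: Cfsg.Agent.OddHalf.D7Tw.Tform
section

/-!
# Homomorphisms to abelian groups of `Type` detect the commutator subgroup of a finite group
-/

set_option autoImplicit false

namespace Cfsg.Agent.OddHalf.D7Tw

open Subgroup

universe u

/-- a copy of `Fin n` without algebraic structure -/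
structure Box (n : ℕ) where
  /-- the element -/
  v : Fin n

theorem exists_type (A : Type u) [CommGroup A] [Finite A] : ∃ (B : Type) (_ : CommGroup B), Nonempty (A ≃* B) := by
  obtain ⟨n, ⟨e⟩⟩ := Finite.exists_equiv_fin A
  let e' : Box n ≃ A := (⟨Box.v, Box.mk, fun _ => rfl, fun _ => rfl⟩ : Box n ≃ Fin n).trans e.symm
  let i : CommGroup (Box n) := e'.commGroup
  have hm : ∀ x y : Box n, x * y = e'.symm (e' x * e' y) := fun _ _ => rfl
  refine ⟨Box n, i, ⟨{ e'.symm with map_mul' := fun x y => ?_ }⟩⟩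
  show e'.symm (x * y) = e'.symm x * e'.symm y
  rw [hm, Equiv.apply_symm_apply, Equiv.apply_symm_apply]

theorem mem_commutator_of_type {H : Type u} [Group H] [Finite H] {x : H}
    (h : ∀ {A : Type} [CommGroup A] (φ : H →* A), φ x = 1) : x ∈ commutator H := by
  obtain ⟨B, _, ⟨e⟩⟩ := exists_type (Abelianization H)
  have h1 := h (e.toMonoidHom.comp Abelianization.of)
  have h2 : Abelianization.of x = 1 := by
    apply e.injective
    rw [map_one]
    exact h1
  rwa [← MonoidHom.mem_ker, Abelianization.ker_of] at h2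

/-- the `T`-formula for `Type` gives `t ∈ C_G(z)'` -/
theorem tform_of {G : Type u} [Group G] [Finite G] {t z : G}
    (h : ∀ {A : Type} [CommGroup A] (φ : centralizer ({z} : Set G) →* A) (h : t ∈ centralizer ({z} : Set G)),
      φ ⟨t, h⟩ = 1) (ht : t ∈ centralizer ({z} : Set G)) :
    (⟨t, ht⟩ : ↥(centralizer ({z} : Set G))) ∈ commutator ↥(centralizer ({z} : Set G)) :=
  mem_commutator_of_type fun φ => h φ ht

end Cfsg.Agent.OddHalf.D7Tw

end

-- merged: Cfsg.Agent.OddHalf.D7Tw.Node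
section

/-!
# Node D7, row `²E₆(q)`, `q > 2` even (helper53)

* `k1`, `k2` : the centraliser hypotheses of `Pre.dbl` in `G`;
* `dbl` : the doubled long root groups;
* `node_big` : no standard component `²E₆(q)`, `q > 2` even, with cyclic Sylow 2-subgroups of the centraliser.
-/

set_option autoImplicit false
set_option linter.unusedSectionVars false

namespace Cfsg.Agent.OddHalf.D7Tw.Node

open CoxeterSystem Cfsg.Agent.ChevalleyStructure.CoxeterGeom Cfsg.Agent.Tits.Roots Cfsg.Agent.Tits.Core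
  Cfsg.Agent.Tits.RootComb Cfsg.Agent.Nodes.Reps Cfsg.Agent.Nodes.BNOf
  Cfsg.Agent.Nodes.Coroot Cfsg.Agent.Nodes.StabComb Cfsg.Agent.Nodes.LeviDec
  Cfsg.Agent.Nodes.Bruhat Cfsg.Agent.Nodes.OppDec
  Cfsg.Agent.KFacts.RgdPar Cfsg.Agent.KFacts.RgdCent
  Cfsg.Agent.KFacts.RgdSL Cfsg.Agent.KFacts.RgdTI Cfsg.Agent.KFacts.RgdEx
  Cfsg.Agent.Nodes.RGDTwE6 Cfsg.Agent.KFacts.TwESix.Comb Cfsg.Agent.KFacts.TwESix.CombRho
  Cfsg.Agent.KFacts.TwESix.Facts Cfsg.Agent.KFacts.TwESix.QRho Cfsg.Agent.KFacts.TwESix.Faith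
  Cfsg.Agent.OddHalf.SL.Defs
  Cfsg.Agent.OddHalf.D7Tw Cfsg.Agent.OddHalf.D7Tw.Orbit Cfsg.Agent.OddHalf.D7Tw.ExRho
  Cfsg.Agent.OddHalf.D7Tw.Front Cfsg.Agent.OddHalf.D7Tw.Inst Cfsg.Agent.OddHalf.D7Tw.DFour
open Cfsg Cfsg.Lie Cfsg.Agent.OddHalf.Iface Cfsg.Agent.OddHalf.D7.Cases

section Over

variable {G : Type*} [Group G] {K : Subgroup G} {t : G}
variable {W Y : Type*} [Group W] [Group Y] {cs : CoxeterSystem CoxeterMatrix.F₄ W} {T₀ : Subgroup Y} {n : Fin 4 → Y}
  {X : (Fin 4 → ℤ) → Subgroup Y}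

/-- an automorphism fixing the images of elements -/
theorem aut_eq (e : Y ≃* ↥K) {c : G} (hc : c ∈ Subgroup.normalizer (K : Set G)) {v : Y}
    (h : c * emb e v = emb e v * c) : aut e hc v = v := by
  apply emb_injective e
  rw [emb_aut, h, mul_inv_cancel_right]

theorem k1 {R : RGD cs isCartan 2 T₀ n X} (D : Dat R) (e : Y ≃* ↥K) (S : Cfsg.Agent.OddHalf.Front.FE.Start K t t)
    (hN : NoCent cs isCartan T₀ X) (hG1 : RGD.Sup X {x | IsRoot cs isCartan x} = ⊤) : Pre.K1 cs (XG e X) t := by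
  intro r hr hl k hkt hk
  have hkN := S.nK k hkt
  obtain ⟨z, hz, hα⟩ := Cfsg.Agent.KFacts.TwESix.Cent.aut_k1 D hr hl hN hG1 (α := aut e hkN)
    fun a ha ha0 v hv => aut_eq e hkN (hk a ha ha0 _ ⟨v, hv, rfl⟩)
  refine ⟨emb e z, ⟨z, hz, rfl⟩, ?_⟩
  exact eq_or_of_aut e hkN hkt (fun k hk => (S.toStart0.Kt k hk).symm) (centK S) hα

theorem k2 {R : RGD cs isCartan 2 T₀ n X} (D : Dat R) (e : Y ≃* ↥K) (S : Cfsg.Agent.OddHalf.Front.FE.Start K t t)
    (hN : NoCent cs isCartan T₀ X) (hG1 : RGD.Sup X {x | IsRoot cs isCartan x} = ⊤) : Pre.K2 cs (XG e X) t := by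
  intro r s hr hs hl hls hrs k hkt hk
  have hkN := S.nK k hkt
  obtain ⟨x, hx, y, hy, hα⟩ := Cfsg.Agent.KFacts.TwESix.Cent.aut_k2 D hr hl hs hls hrs hN hG1 (α := aut e hkN)
    fun a ha ha0 v hv => aut_eq e hkN (hk a ha ha0 _ ⟨v, hv, rfl⟩)
  refine ⟨emb e x, ⟨x, hx, rfl⟩, emb e y, ⟨y, hy, rfl⟩, ?_⟩
  rw [← map_mul]
  exact eq_or_of_aut e hkN hkt (fun k hk => (S.toStart0.Kt k hk).symm) (centK S) hα

end Over

section Inst

variable {F : Type} [Field F] [Fintype F] {q : ℕ} {φ : F →+* F}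
variable {G : Type*} [Group G] {K : Subgroup G} {W : Type*} [Group W] {cs : CoxeterSystem CoxeterMatrix.F₄ W}
  {hφ : ∀ x, φ x = x ^ q} {hqq : ∀ t : F, (t ^ q) ^ q = t} {e : ↥(twistedE6 F q) ≃* ↥K} [CharP F 2] {t : G}
  {T : Subgroup G} {m z : G} {V : (Fin 4 → ℤ) → Subgroup G}

theorem noCent (hφ : ∀ x, φ x = x ^ q) (hqq : ∀ t : F, (t ^ q) ^ q = t) (hq : IsPrimePow q)
    (hF : Fintype.card F = q ^ 2) : NoCent cs isCartan (Cfsg.Agent.Nodes.RGDTwE6.T F q) (X φ q) := by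
  have : Finite W := finiteW cs
  obtain ⟨h1, h2⟩ := Cfsg.Agent.S1070.result (K := F) hq hF
  exact noCent_of_center (rgd cs hφ hqq 2) (G1_eq_top cs hφ hqq) (center_eq_bot h1 h2)

/-- **the doubled long root groups** -/
theorem dbl [Finite G] (A : All cs hφ hqq e t T m z V) (hq : IsPrimePow q) (hF : Fintype.card F = q ^ 2) :
    Dbl t B Phi (Long.XL (XG e (X φ q))) (Long.XL V) := by
  have hD : Dat (rgd cs hφ hqq 2) := Cfsg.Agent.KFacts.TwESix.Dat.dat cs hφ hqq hF hq.one_lt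
  have hNC := noCent (cs := cs) hφ hqq hq hF
  exact Pre.dbl A.kx.dat A.yo A.kx.tt (fun a ha x hx => A.kx.tX ha hx) (fun w k hk => A.kx.Kt k (A.kx.NK hk)) A.kx.tK
    (fun a ha => A.kx.XK ha) A.kx.three (k1 hD e A.start hNC (G1_eq_top cs hφ hqq))
    (k2 hD e A.start hNC (G1_eq_top cs hφ hqq))

theorem base [Finite G] (A : All cs hφ hqq e t T m z V) (hq : IsPrimePow q) (hF : Fintype.card F = q ^ 2) :
    Base t K B Phi (fun x => XG e (X φ q) (c x)) (fun x => V (c x)) ![1, 1, 0, 0]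
      (PP cs (XG e (X φ q))) (QQ cs (XG e (X φ q))) := by
  have h := BaseOf.base A.kx.dat A.nc (fun k hk => A.kx.Kt k (A.kx.gg ▸ hk)) (fun h => A.kx.tK (A.kx.gg ▸ h)) A.yo
    (dbl A hq hF)
  rwa [A.kx.gg] at h

theorem cen [Finite G] (A : All cs hφ hqq e t T m z V) (hq : IsPrimePow q) (hF : Fintype.card F = q ^ 2) {x : G}
    (hx : x ∈ XG e (X φ q) rho) (hx1 : x ≠ 1) :
    Cen t x (XG e (X φ q) rho) (PP cs (XG e (X φ q))) (QQ cs (XG e (X φ q))) := by
  have hD : Dat (rgd cs hφ hqq 2) := Cfsg.Agent.KFacts.TwESix.Dat.dat cs hφ hqq hF hq.one_lt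
  have hNC := noCent (cs := cs) hφ hqq hq hF
  exact CenOf.cen A.kx.dat A.kx.Tab A.kx.gg A.start ((Cfsg.Agent.Schreier.TwESix.sch hq hF).of_equiv e)
    (CenOf.autQ_of (fun α hα => Cfsg.Agent.KFacts.TwESix.Cent.aut_k1 hD (rho_root cs) rho_long hNC
      (G1_eq_top cs hφ hqq) hα) e A.start.nK) hx hx1

end Inst

universe u

/-- `²E₆(2^a)`, `a ≥ 2` -/
def Big (X : Type u) [Group X] : Prop :=
  ∃ (F : Type) (_ : Field F) (_ : Fintype F) (a : ℕ), 2 ≤ a ∧ Fintype.card F = 4 ^ a ∧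
    Nonempty (X ≃* ↥(Lie.twistedE6 F (2 ^ a)))

/-- the torus facts, for every root group datum of type `F₄` with `Dat` -/
def TorFact : Prop :=
  ∀ (G : Type u) [Group G] [Finite G] (W : Type) [Group W] (cs : CoxeterSystem CoxeterMatrix.F₄ W) (T : Subgroup G)
    (n : Fin 4 → G) (X : (Fin 4 → ℤ) → Subgroup G) (R : RGD cs isCartan 2 T n X), Dat R →
    (∀ a ∈ T, ∀ b ∈ T, a * b = b * a) → ∀ K : Subgroup G, GG cs isCartan T X = K →
    ∃ (s : Fin 4 → ℤ) (TA : Subgroup G), Tor K B Phi (fun x => X (c x)) ![1, 1, 0, 0] (PP cs X) s TA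

theorem torFact : TorFact.{u} := by
  intro G _ _ W _ cs T n X R D hT K hK
  rw [← hK]
  exact ⟨_, _, TorOf.tor D hT⟩

theorem node_big (hSch : Cfsg.Agent.Schreier.Cases.SchFor.{u} @IsKnownSimple')
    (hGW : SylowSp4.Hyps.GW.{u}) (hI : Iface.Intr.{u}) (hIN : IntrNon.{u}) (hMV : MultV.{u})
    (hNI : CaseM.NI.{u}) : D7.Cases.Node.{u} @Big.{u} := by
  intro G _ C K S hcyc hK
  obtain ⟨F, _, _, a, ha, hF, ⟨e⟩⟩ := hK
  have := C.fin
  have hq : IsPrimePow (2 ^ a) := ⟨2, a, Nat.prime_two.prime, by omega, rfl⟩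
  have hF' : Fintype.card F = (2 ^ a) ^ 2 := by
    rw [hF, ← pow_mul, mul_comm a 2, pow_mul]
    norm_num
  have hq2 : 2 < 2 ^ a := by
    calc 2 < 2 ^ 2 := by norm_num
      _ ≤ 2 ^ a := Nat.pow_le_pow_right (by norm_num) ha
  have hchar : CharP F 2 := by
    obtain ⟨p, hp⟩ := CharP.exists F
    have : Fact p.Prime := ⟨CharP.char_is_prime F p⟩
    have h1 : p ∣ Fintype.card F := (CharP.cast_eq_zero_iff F p _).1 (Nat.cast_card_eq_zero F)
    rw [hF', ← pow_mul] at h1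
    have h2 : p = 2 := (Nat.prime_dvd_prime_iff_eq Fact.out Nat.prime_two).1 (Nat.Prime.dvd_of_dvd_pow Fact.out h1)
    rwa [h2] at hp
  have hφ : ∀ x, iterateFrobenius F 2 a x = x ^ 2 ^ a := fun x => iterateFrobenius_def 2 a x
  have hqq : ∀ t : F, (t ^ 2 ^ a) ^ 2 ^ a = t := fun t => by
    rw [← pow_mul, ← pow_two, ← hF']
    exact FiniteField.pow_card t
  let cs := CoxeterMatrix.F₄.toCoxeterSystem
  obtain ⟨t, T, m, z, V, A⟩ := exists_all C S hcyc cs hφ hqq hq hq2 hF' e.symm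
  obtain ⟨s, TA, hT⟩ := torFact G _ cs _ _ _ (rgdG (rgd cs hφ hqq 2) e.symm) A.kx.dat A.kx.Tab K A.kx.gg
  have hcρ : c ![1, 1, 0, 0] = rho := DFour.c_rho
  have hb := base A hq hF'
  refine hb.false_of C hSch hGW hI hIN hMV hNI hT (fun x hx hx1 => ?_) (z := z) ?_ A.out.sw.z1
    (fun ht => tform_of A.out.phi ht)
  · simp only [hcρ] at hx ⊢
    exact cen A hq hF' hx hx1
  · simp only [hcρ]
    exact A.out.sw.zZ

end Cfsg.Agent.OddHalf.D7Tw.Node

end

-- merged: Cfsg.Agent.OddHalf.D7Tw.QTwo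
section

/-!
# Node D7: `K = ²E₆(2)` (helper883, helper924)

`factsE`: the sheets of `²E₆(2)`; `node_two`: the row of `²E₆(2)` modulo case (M) (`NoCompM`);
`node_of`: the row `Fam2E6` from the groups over larger fields.
-/

set_option autoImplicit false

namespace Cfsg.Agent.OddHalf.D7Tw.QTwo

open Cfsg Cfsg.Agent.OddHalf.Iface Cfsg.Agent.OddHalf.D7.Cases Cfsg.Agent.OddHalf.D8.Final

universe u

/-- `X ≅ ²E₆(2)`. -/
def Fam2E6Two (X : Type u) [Group X] : Prop :=
  ∃ (F : Type) (_ : Field F) (_ : Fintype F), Fintype.card F = 4 ∧ Nonempty (X ≃* ↥(Lie.twistedE6 F 2))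

/-- `X ≅ ²E₆(2^a)`, `a ≥ 2`. -/
def Fam2E6Big (X : Type u) [Group X] : Prop :=
  ∃ (F : Type) (_ : Field F) (_ : Fintype F) (a : ℕ), 2 ≤ a ∧ Fintype.card F = 4 ^ a ∧
    Nonempty (X ≃* ↥(Lie.twistedE6 F (2 ^ a)))

/-- **The sheets of `²E₆(2)`.** -/
theorem factsE : FactsE.{u} (fun K _ => Fam2E6Two K) := by
  rintro K _ - ⟨F', _, _, hF, ⟨e⟩⟩
  obtain ⟨-, φ, F⟩ := Cfsg.Agent.TwoESix.LeviA.exists_four F' hF
  exact ⟨_, _, _, D8.SheetMap.sheetE_map e.symm (Cfsg.Agent.TwoESix.SheetMain.sheet F),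
    KFacts.InnerCaseM.sheetM_map e.symm (Cfsg.Agent.TwoESix.SheetMM.sheetM F (Cfsg.Agent.TwoESix.SheetMain.sheet F))⟩

/-- **The row of `²E₆(2)`.** -/
theorem node_two (hM : NoCompM.{u}) : Node.{u} @Fam2E6Two.{u} := rowE hM factsE

/-- The row of the groups `²E₆(q)` from the groups with `q ≥ 4`. -/
theorem node_of (hM : NoCompM.{u}) (h : Node.{u} @Fam2E6Big.{u}) : Node.{u} @Fam2E6.{u} := by
  rintro G _ C K S c ⟨F, _, _, a, ha, hF, he⟩
  rcases Nat.lt_or_ge a 2 with h2 | h2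
  · have h1 : a = 1 := by omega
    subst h1
    rw [pow_one] at hF he
    exact node_two hM G C K S c ⟨F, _, _, hF, he⟩
  · exact h G C K S c ⟨F, _, _, a, h2, hF, he⟩

end Cfsg.Agent.OddHalf.D7Tw.QTwo

end

-- merged: Cfsg.Agent.OddHalf.D7Tw.Row
section

/-!
# Node D7, row `²E₆(2^a)`, all `a ≥ 1` (helper53)
-/

set_option autoImplicit false

namespace Cfsg.Agent.OddHalf.D7Tw.Row

open Cfsg

universe u

/-- **the row `²E₆(q)`, `q` even, of node D7** -/
theorem te6 (hM : D8.Final.NoCompM.{u})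
    (hSch : Cfsg.Agent.Schreier.Cases.SchFor.{u} @IsKnownSimple')
    (hGW : SylowSp4.Hyps.GW.{u}) (hI : Iface.Intr.{u}) (hIN : IntrNon.{u}) (hMV : MultV.{u})
    (hNI : CaseM.NI.{u}) : D7.Cases.Node.{u} @D7.Cases.Fam2E6.{u} :=
  QTwo.node_of hM (Node.node_big hSch hGW hI hIN hMV hNI)

end Cfsg.Agent.OddHalf.D7Tw.Row

end

-- merged: Cfsg.Agent.OddHalf.D7TwF4.Asm
section

/-!
# ODD D7, `K = ²F₄(q)`, `q ≥ 8`: the row (assembly: helper186)

Front: helper841, helper611; sections 1.1 - 1.3: helper467; 1.4 - 1.7: helper853; 2, 3: helper544, helper297, helper625;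
K-facts: helper517, helper401, helper171, helper611, helper841; growth: helper702, helper180, helper956, helper76,
helper583, helper570; the end: helper583.

* `exists_cx` : sections 1 and 2a; `inp` : the input of the growth;
* `false_of_pos` : the position is contradictory; `node` : `Node @Fam2F4`.
-/

set_option autoImplicit false
set_option Elab.async false

namespace Cfsg.Agent.OddHalf.D7TwF4.Asm

open Cfsg.Agent.KFacts.TwF4 Cfsg.Agent.OddHalf.D7TwF4.Defs
open Cfsg.Agent.OddHalf.D7TwF4.Growth.Defs Cfsg.Agent.OddHalf.D7TwF4.Growth.KInst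
open Cfsg.Agent.OddHalf.D7TwF4.Growth.KCen Cfsg.Agent.OddHalf.D7TwF4.Fab2
open Cfsg.Agent.OddHalf.Iface Cfsg.Agent.OddHalf.D7.Cases

universe u v w

variable {F₀ : Type w} [Field F₀] {σ : F₀ →+* F₀} {Y : Type u} [Group Y] {G : Type v} [Group G]
variable {S : Full σ Y} {i : Y →* G} {t : G}

/-- **Sections 1 and 2a.** -/
theorem exists_cx (P : Pos S i t) : ∃ W : ℤ → Subgroup G, Cx S i t W := by
  obtain ⟨W, D⟩ := WMk.exists_WData_of_NEl P (Norm.exists_NEl P)
  exact ⟨W, P, D, Fab.comm_two P D⟩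

/-- **The input of the growth.** -/
theorem inp {W : ℤ → Subgroup G} (C : Cx S i t W) :
    Inp (tau t) (fun k => (S.XZ k).map i) (fun k => (YZ S k).map i) (Vd S i W) (fun k => (S.Tk k).map i) :=
  Growth.Glue.inp C ((kbaseStd S (by have := C.P.big; omega)).map C.P.inj)

/-- **The position is contradictory.** -/
theorem false_of_pos (P : Pos S i t) : False := by
  have := P.finG
  obtain ⟨W, C⟩ := exists_cx P
  obtain ⟨R, hR⟩ := Growth.LevelFive.of_inp (Growth.Frame.inp (inp C) 2 (Or.inl rfl))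
  exact Growth.End.false_of_U P (fun x => tau_eq P x) (X := fun k => (S.XZ k).map i) (Y := fun k => (YZ S k).map i)
    (fun k => rfl) (fun c => by
      show (YZ S (2 * c + 1)).map i = (S.XZ (2 * c + 1)).map i
      rw [YZ_odd]) hR

/-- **Node D7 for `²F₄(q)`**, `q ≥ 8`. -/
theorem node : Node.{u} @Fam2F4.{u} := by
  intro G _ C K Sd hc hF
  obtain ⟨F, _, σ, Y, _, S, i, t, P⟩ := FrontFin.exists_pos C Sd hc hF
  exact false_of_pos P

end Cfsg.Agent.OddHalf.D7TwF4.Asm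

end

-- merged: Cfsg.Agent.OddHalf.D7.Plug
section

/-!
# ODD half: the node D7, with the landed rows plugged in (helper859, integrator; helper186: `Cases`, `Final`)

`Given`: what is used from the other nodes. `Missing`: the row `Tits`, now proved (`missing`).
`d7`: the node.

Rows: `L` RowL (158, 875), `E6 E7 E8` RowE (158), `O+` RowOPlus (158, 875, 657, 57), `U` Uni.RowU (342 and others),
`O-` Orth.NodeMinus (166, 490), `2E6` D7Tw.Row (53, 756, 883), `Sp` SpN (q >= 4: 297, 859) and SpTwoN (q = 2: 529),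
`F4` D7F4.Row (84, 588, 250), `2F4` D7TwF4.Asm (186, 544), `Tits` D7Tits.Final (853 and others, see there).
-/

set_option autoImplicit false

namespace Cfsg.Agent.OddHalf.D7.Plug

open Subgroup Cfsg Cfsg.Agent.OddHalf.Iface Cfsg.Agent.OddHalf.D7.Cases

universe u

/-- the statements of other nodes -/
structure Given : Prop where
  /-- the Schreier property of the known simple groups: `Schreier.Assembly.known` (closed) -/
  sch : Cfsg.Agent.Schreier.Cases.SchFor.{u} @IsKnownSimple'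
  /-- Gorenstein-Walter: S0483 (closed) -/
  gw : SylowSp4.Hyps.GW.{u}
  /-- case (M): `D8.Plug.noComp` -/
  noComp : Iface.Intr2.{u} → D8.Final.NoCompM.{u}
  /-- no intrinsic component of Lie type in odd characteristic (node NI) -/
  ni : CaseM.NI.{u}
  /-- no standard subgroup with noncyclic centre -/
  intrNon : D7Tw.IntrNon.{u}
  /-- elementary abelian centres have order at most 4 -/
  multV : D7Tw.MultV.{u}

/-- `Given` from the other nodes; `M4`, `R`: the multipliers and the rows with `Z(K) ≠ 1` of node D4 -/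
theorem given_of (sch : Cfsg.Agent.Schreier.Cases.SchFor.{u} @IsKnownSimple') (gw : SylowSp4.Hyps.GW.{u})
    (noComp : Iface.Intr2.{u} → D8.Final.NoCompM.{u}) (ni : CaseM.NI.{u}) (Kn : Main.Known.{u})
    (d5cover : D5cover.{u}) (u2 : U2.{u}) (M4 : D4.Cut.MultD4.{u}) (R : D4.Cut.RowsCov.{u}) : Given.{u} where
  sch := sch
  gw := gw
  noComp := noComp
  ni := ni
  intrNon := D7Tw.intrNon_of Kn d5cover u2 M4 R
  multV := D7Tw.multV_of d5cover M4

/-- `Intr` from `Intr2` -/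
theorem intr (I : Iface.Intr2.{u}) : Iface.Intr.{u} := fun G _ C M z hz hM hzM hCM => I G C M hM
  (by
    intro R
    have h1 : IsCyclic ↥(centralizer (M : Set G)) := by
      rw [hCM]
      infer_instance
    infer_instance)
  ⟨z, hz, hzM, by rw [hCM]; exact mem_zpowers z⟩

/-- the row `Tits` -/
structure Missing : Prop where
  tits : Node.{u} @Lie.IsoTits.{u}

/-- the row `Sp_2n(2)`, `n ≥ 4` -/
theorem spTwo : SpN.Row.Two.{u} := fun _ _ C _ S hc _ _ _ _ hF hm ⟨e⟩ =>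
  SpTwoN.RowTwo.false_of_psp C S hc hm hF e

/-- all rows -/
theorem rows (g : Given.{u}) (I : Iface.Intr2.{u}) (h : Missing.{u}) : Final.Rows.{u} where
  l := RowL.node_L
  u := Uni.RowU.node (g.noComp I)
  sp := SpN.Row.node_of SpN.Row.main spTwo
  oPlus := RowOPlus.node_OPlus
  oMinus := Orth.NodeMinus.node_minus
  f4 := D7F4.Row.node
  e6 := RowE.node_E6
  e7 := RowE.node_E7
  e8 := RowE.node_E8
  te6 := D7Tw.Row.te6 (g.noComp I) g.sch g.gw (intr I) g.intrNon g.multV g.ni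
  tf4 := D7TwF4.Asm.node
  tits := h.tits

/-- **the node D7** (as in `Main.Nodes.d7`) -/
theorem d7_of_missing (g : Given.{u}) (h : Missing.{u}) : Iface.Intr2.{u} → Iface.D7.{u} :=
  fun I => Final.d7_of_rows (rows g I h)

/-- nothing is missing -/
theorem missing : Missing.{u} := ⟨D7Tits.Final.node⟩

/-- **the node D7**, all rows proved -/
theorem d7 (g : Given.{u}) : Iface.Intr2.{u} → Iface.D7.{u} := d7_of_missing g missing

end Cfsg.Agent.OddHalf.D7.Plug

end

-- merged: Cfsg.Agent.OddHalf.Top.NIMore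
section

/-!
# `CaseM.NI` and D6 (`Z(K) = 1`) from `NI3.Assemble.Left`
-/

set_option autoImplicit false

namespace Cfsg.Agent.OddHalf.Top.NIMore

open Subgroup Cfsg Cfsg.Agent.OddHalf.Iface Cfsg.Agent.OddHalf.LieOddFam

universe u

/-- THEOREM NIB in the form of `CaseM.NoU43` -/
theorem noU43_of (h : NI3.Bad.NIB.{u}) : CaseM.NoU43.{u} :=
  fun G _ C z M hz hc hzM h2 hX => h G C z M hz (NI.Final.comp_of_compOf hc) hzM ⟨Soft.CompOf.quasisimple hc, h2, hX⟩

/-- **`CaseM.NI`** -/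
theorem ni (L : NI3.Assemble.Left.{u}) : CaseM.NI.{u} :=
  CaseM.ni_of L.gw L.p1738 CoverAlt.d5cover (NI3.Assemble.noBig L) (NI3.Assemble.noThree L) L.f13c (noU43_of L.nib)

/-- **Node D6** (`Z(K) = 1`) from the six small rows over `F_3` -/
theorem d6z (L : NI3.Assemble.Left.{u}) (R : NI3.Bad.SixRows.{u}) : D6.Cut.D6z.{u} :=
  D6.Final.d6z_of (NI3.Assemble.facts L) (NI3.Assemble.d6_row L R)

end Cfsg.Agent.OddHalf.Top.NIMore

end

-- merged: Cfsg.Agent.OddHalf.Top.Nodes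
section

/-!
# S1765: the nodes of the odd half, with everything on main plugged in

`Given`: THEOREM T, S1310, S1311 and the listed statements. `nodes : Given → Main.Nodes`.
-/

set_option autoImplicit false

namespace Cfsg.Agent.OddHalf.Top.Nodes

open Subgroup Cfsg Cfsg.Agent.OddHalf.Iface Cfsg.Agent.OddHalf.LieOddFam

universe u

/-- Gorenstein-Walter (S0483) -/
theorem gw : SylowSp4.Hyps.GW.{u} := fun _ _ _ _ S n hn h => Cfsg.Agent.S0483.result S n hn h

/-- the odd order theorem (S0205) -/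
theorem ft (X : Type u) [Group X] [Finite X] (h : Odd (Nat.card X)) : Group.IsSolvable X :=
  Cfsg.Agent.S0205.result h

/-- S1173 -/
theorem p1173 : D4.Start.P1173.{u} := fun G _ _ hO S T hT => Cfsg.Agent.S1173.result (G := G) hO S T hT

/-- THEOREM T, S1310, S1311 and the listed statements of `Main.Known` -/
structure Given : Prop where
  tstmt : Cit.TStmt.{u}
  p1310 : Stmts.P1310.{u}
  p1311 : Stmts.P1311.{u}
  ugt : ∀ (G : Type u) [Group G] [Finite G], FixBN.BTheorem.UGT G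
  known : Main.Known.{u}

/-! ### The rows of (EX3) -/

theorem rows3 : NI3.Ex.Rows3.{u} := NI3.Ex.rows3 ⟨fun _ _ _ _ _ h => NI3.Ex.RowB.no3_b h⟩

/-! ### Node NI -/

variable (g : Given.{u})
include g

/-- Node NI -/
theorem ni : NI3.Assemble.Left.{u} := NIOpen.left (NibOf.toOpen
  { tst := g.tstmt
    p1310 := g.p1310
    p1311 := g.p1311
    xrows := NI.Ex.Plug.xrows
    no44 := No44.no44 g.ugt
    rows3 := rows3
    rows4 := NI3.Ex4.rows4All })

theorem noU : NI3.Bad.NoU.{u} := NI3.Assemble.noU (ni g)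

/-- a standard `K` which contains a component `2.U₄(3) ∋ y` of the centralizer of `y` -/
theorem orthRow {P : (K : Type u) → [Group K] → Prop} (hP : ∀ (K : Type u) [Group K], P K → NI3.Bad.HasU K) :
    D4.Cut.Row1.{u} P := by
  intro G _ C K S _ _ h
  obtain ⟨t, ht, hK⟩ := S.comp
  exact noU g G C t K ht hK (hP ↥K h)

/-- the rows of D4 of Lie type in odd characteristic -/
theorem d4odd : D4.Final.Odd.Open.{u} where
  big := NI3.Assemble.noBig (ni g)
  ree := D4.Ree.row p1173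
  noThree := NI3.Assemble.noThree (ni g)
  f13 := NI3.K.f13
  l4 _ _ _ _ _ hF e := D4.Small.LFourK.hasSheetL hF e
  o7 := orthRow g fun _ _ h => NI3.K.OrthU.o7 h
  o8p := orthRow g fun _ _ h => NI3.K.OrthU.o8p h
  o8m := orthRow g fun _ _ h => NI3.K.OrthU.o8m h

theorem u2 : Iface.U2.{u} := NI3.Assemble.u2 (ni g)

theorem niM : CaseM.NI.{u} := NIMore.ni (ni g)

/-- Node Q -/
theorem nodeQ : NodeQ.{u} :=
  Quat.PlugFin.nodeQ g.known CoverAlt.d5cover (u2 g) (NI3.Assemble.noBig (ni g)) (NI3.Assemble.noThree (ni g))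
    NI3.K.f13 (Quat.rowO83 (noU g))

/-- the six small rows of D6 -/
theorem six (I : Intr2.{u}) : NI3.Bad.SixRows.{u} :=
  have hS := D8.Plug.intrSign (niM g)
  have hI := CaseM.intr_of (D8.Plug.intr I)
  { l3 := D6.RThree.Plug.l3
    u3 := D6.RThree.Plug.u3
    l4 := D6.QThree.L43.RowFin.row gw I hS (nodeQ g) D6.QThree.Pump.spOrd (NI3.Assemble.noThree (ni g))
    u4 := D6.QThree.RowU4.row gw I hS (nodeQ g) D6.QThree.Pump.spOrd Small.RowsAll.rows D8.Plug.p1758
      (NI3.Assemble.noThree (ni g))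
    sp4 := D6.QThree.RowSp.row gw hI hS
    g2 := D6.QThree.RowG2.row gw hI hS }

/-- **the nodes** -/
theorem nodes : Main.Nodes.{u} where
  d3a := D3.Plug.d3a
  d3b _ := D3b.FinalAll.d3b Cfsg.Agent.Schreier.Assembly.known (fun _ _ _ _ h => ft _ h)
    (fun _ _ _ _ S n hn hS => Cfsg.Agent.S0483.result S n hn hS)
    (fun _ _ _ hO S T hT => Cfsg.Agent.S1173.result hO S T hT)
  d4 _ := D4.Final.d4_of_odd D4.Final.given (d4odd g)
  d5 I := D5.d5 (Main.intr_of_intr2 I)
  d5cover := CoverAlt.d5cover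
  u2 := u2 g
  d6 I := NIMore.d6z (ni g) (six g I)
  d7 := D7.Plug.d7_of_missing
    (D7.Plug.given_of Cfsg.Agent.Schreier.Assembly.known gw (fun I => D8.Plug.noComp I) (niM g) g.known CoverAlt.d5cover
      (u2 g) (D4.Final.Mult.multD4 D4.Final.Mult.opn)
      (D4.Final.Cov.rowsCov D4.Final.given.hFT D4.Final.given.hTI)) ⟨D7Tits.Final.node⟩
  d8 := D8.Plug.d8 (niM g)
  d9 := D9.Final.d9
  dq _ := nodeQ g

end Cfsg.Agent.OddHalf.Top.Nodes

end
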